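import Mathlib
import Cfsg.Prelude.Def_KGroupFacts

/-!
# Outer automorphisms of permutation groups with a unique class of point stabilisers
-/

set_option autoImplicit false
set_option linter.style.haveILetI false
set_option linter.unusedSectionVars false

open Cfsg
open scoped Pointwise

namespace Cfsg.Agent.TwoGroups.OutMathieu

universe u

variable {α : Type*} [Finite α]

/-- Point stabiliser inside a permutation group, as a subgroup of that group. -/
def pstab (G : Subgroup (Equiv.Perm α)) (p : α) : Subgroup G where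
  carrier := {g | (g : Equiv.Perm α) p = p}
  one_mem' := rfl
  mul_mem' {a b} ha hb := by
    show (a : Equiv.Perm α) ((b : Equiv.Perm α) p) = p
    rw [show (b : Equiv.Perm α) p = p from hb, show (a : Equiv.Perm α) p = p from ha]
  inv_mem' {a} ha := by
    show (a : Equiv.Perm α)⁻¹ p = p
    conv_lhs => rw [← show (a : Equiv.Perm α) p = p from ha]
    exact (a : Equiv.Perm α).symm_apply_apply p

theorem mem_pstab {G : Subgroup (Equiv.Perm α)} {p : α} {g : G} :
    g ∈ pstab G p ↔ (g : Equiv.Perm α) p = p := Iff.rfl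

/-- The hypotheses: `G` moves only points of `S`, its point stabilisers on `S` are distinct and
have index `n`, and every subgroup of index `n` is one of them. -/
structure Rigid (G : Subgroup (Equiv.Perm α)) (S : Set α) (n : ℕ) : Prop where
  out : ∀ g ∈ G, ∀ p ∉ S, g p = p
  idx : ∀ p ∈ S, (pstab G p).index = n
  inj : ∀ p ∈ S, ∀ q ∈ S, pstab G p = pstab G q → p = q
  cls : ∀ X : Subgroup G, X.index = n → ∃ p ∈ S, X = pstab G p

variable {G : Subgroup (Equiv.Perm α)} {S : Set α} {n : ℕ}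

theorem Rigid.stable (h : Rigid G S n) {g : Equiv.Perm α} (hg : g ∈ G) {p : α} (hp : p ∈ S) :
    g p ∈ S := by
  by_contra hc
  have e := g.injective (h.out g hg _ hc)
  exact hc (by rw [e]; exact hp)

/-- Every automorphism is induced by a permutation of the points. -/
theorem Rigid.exists_perm (h : Rigid G S n) (φ : MulAut G) :
    ∃ σ : Equiv.Perm α, (∀ p ∉ S, σ p = p) ∧
      ∀ g : G, ((φ g : G) : Equiv.Perm α) = σ * g * σ⁻¹ := by
  classical
  have hex : ∀ p ∈ S, ∃ q ∈ S, (pstab G p).map φ.toMonoidHom = pstab G q := by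
    intro p hp
    refine h.cls _ ?_
    rw [← h.idx p hp]
    exact Subgroup.index_map_equiv (H := pstab G p) φ
  choose q hqS hq using hex
  let f : α → α := fun p => if hp : p ∈ S then q p hp else p
  have hfin : ∀ p (hp : p ∈ S), f p = q p hp := fun p hp => dif_pos hp
  have hfout : ∀ p, p ∉ S → f p = p := fun p hp => dif_neg hp
  have hfinj : Function.Injective f := by
    intro a b e
    by_cases ha : a ∈ S <;> by_cases hb : b ∈ S
    · rw [hfin a ha, hfin b hb] at e
      refine h.inj a ha b hb (Subgroup.map_injective (f := φ.toMonoidHom) φ.injective ?_)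
      rw [hq a ha, hq b hb, e]
    · rw [hfin a ha, hfout b hb] at e
      exact absurd (e ▸ hqS a ha) hb
    · rw [hfout a ha, hfin b hb] at e
      exact absurd (e ▸ hqS b hb) ha
    · rwa [hfout a ha, hfout b hb] at e
  let σ : Equiv.Perm α := Equiv.ofBijective f (Finite.injective_iff_bijective.1 hfinj)
  refine ⟨σ, hfout, fun g => ?_⟩
  rw [eq_mul_inv_iff_mul_eq]
  refine Equiv.ext fun p => ?_
  show ((φ g : G) : Equiv.Perm α) (f p) = f ((g : Equiv.Perm α) p)
  by_cases hp : p ∈ S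
  · have hgp := h.stable g.2 hp
    rw [hfin p hp, hfin _ hgp]
    refine h.inj _ (h.stable (φ g).2 (hqS p hp)) _ (hqS _ hgp) ?_
    rw [← hq _ hgp]
    ext k
    rw [Subgroup.mem_map_equiv, mem_pstab, mem_pstab]
    have e1 : (φ.symm k : G) = g * ((φ.symm ((φ g)⁻¹ * k * φ g) : G)) * g⁻¹ := by
      simp [mul_assoc]
    have e2 : ((φ g)⁻¹ * k * φ g) ∈ pstab G (q p hp) ↔
        ((φ.symm ((φ g)⁻¹ * k * φ g) : G) : Equiv.Perm α) p = p := by
      rw [← hq p hp, Subgroup.mem_map_equiv, mem_pstab]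
    constructor
    · intro hk
      have hk' : ((φ g)⁻¹ * k * φ g) ∈ pstab G (q p hp) := by
        show ((φ g : G) : Equiv.Perm α)⁻¹
          ((k : Equiv.Perm α) (((φ g : G) : Equiv.Perm α) (q p hp))) = q p hp
        rw [hk]
        exact Equiv.symm_apply_apply _ _
      rw [e1]
      show (g : Equiv.Perm α) (((φ.symm ((φ g)⁻¹ * k * φ g) : G) : Equiv.Perm α)
        ((g : Equiv.Perm α)⁻¹ ((g : Equiv.Perm α) p))) = (g : Equiv.Perm α) p
      rw [show (g : Equiv.Perm α)⁻¹ ((g : Equiv.Perm α) p) = p from Equiv.symm_apply_apply _ _,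
        e2.1 hk']
    · intro hk
      rw [e1] at hk
      change (g : Equiv.Perm α) (((φ.symm ((φ g)⁻¹ * k * φ g) : G) : Equiv.Perm α)
        ((g : Equiv.Perm α)⁻¹ ((g : Equiv.Perm α) p))) = (g : Equiv.Perm α) p at hk
      rw [show (g : Equiv.Perm α)⁻¹ ((g : Equiv.Perm α) p) = p from Equiv.symm_apply_apply _ _] at hk
      have hk' : ((φ g : G) : Equiv.Perm α)⁻¹
          ((k : Equiv.Perm α) (((φ g : G) : Equiv.Perm α) (q p hp))) = q p hp :=
        e2.2 ((g : Equiv.Perm α).injective hk)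
      exact (Equiv.symm_apply_eq _).1 hk'
  · rw [hfout p hp, h.out g g.2 p hp, hfout p hp, h.out _ (φ g).2 p hp]

/-- A permutation supported on `S` which centralises `G` is trivial. -/
theorem Rigid.centralizer_eq_one (h : Rigid G S n) {σ : Equiv.Perm α} (hσ : ∀ p ∉ S, σ p = p)
    (hc : ∀ g ∈ G, σ * g = g * σ) : σ = 1 := by
  refine Equiv.ext fun p => ?_
  rw [Equiv.Perm.one_apply]
  by_cases hp : p ∈ S
  swap
  · exact hσ p hp
  have hσp : σ p ∈ S := by
    by_contra hn
    have e := σ.injective (hσ _ hn)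
    exact hn (by rw [e]; exact hp)
  refine (h.inj _ hσp p hp (Subgroup.ext fun g => ?_))
  rw [mem_pstab, mem_pstab, show (g : Equiv.Perm α) (σ p) = σ ((g : Equiv.Perm α) p) from
    (DFunLike.congr_fun (hc g g.2) p).symm, σ.injective.eq_iff]

/-- The outer automorphism group is the group of permutations normalising `G`, modulo `G`. -/
theorem Rigid.card_out (h : Rigid G S n) (N : Subgroup (Equiv.Perm α))
    (hNS : ∀ σ ∈ N, ∀ p ∉ S, σ p = p) (hNG : ∀ σ ∈ N, ∀ g ∈ G, σ * g * σ⁻¹ ∈ G)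
    (hN : ∀ σ : Equiv.Perm α, (∀ p ∉ S, σ p = p) → (∀ g ∈ G, σ * g * σ⁻¹ ∈ G) → σ ∈ N) :
    Nat.card (Cfsg.Out G) = (G.subgroupOf N).index := by
  let Φ : N →* MulAut G :=
    { toFun := fun σ =>
        { toFun := fun g => ⟨σ * g * (σ : Equiv.Perm α)⁻¹, hNG σ σ.2 g g.2⟩
          invFun := fun g => ⟨(σ : Equiv.Perm α)⁻¹ * g * σ, by
            simpa using hNG _ (inv_mem σ.2) g g.2⟩
          left_inv := fun g => Subtype.ext (by simp [mul_assoc])
          right_inv := fun g => Subtype.ext (by simp [mul_assoc])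
          map_mul' := fun a b => Subtype.ext (by simp [mul_assoc]) }
      map_one' := MulEquiv.ext fun g => Subtype.ext (by simp)
      map_mul' := fun a b => MulEquiv.ext fun g => Subtype.ext (by
        show ((a : Equiv.Perm α) * b) * g * ((a : Equiv.Perm α) * b)⁻¹ =
          (a : Equiv.Perm α) * ((b : Equiv.Perm α) * g * (b : Equiv.Perm α)⁻¹) * (a : Equiv.Perm α)⁻¹
        group) }
  let Ψ := (QuotientGroup.mk' (Inn G)).comp Φ
  have hsurj : Function.Surjective Ψ := by
    intro x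
    obtain ⟨φ, rfl⟩ := QuotientGroup.mk'_surjective (Inn G) x
    obtain ⟨σ, hσ, hφ⟩ := h.exists_perm φ
    have hmem : σ ∈ N := hN σ hσ fun g hg => hφ ⟨g, hg⟩ ▸ (φ ⟨g, hg⟩).2
    exact ⟨⟨σ, hmem⟩, congrArg (QuotientGroup.mk' (Inn G))
      (MulEquiv.ext fun g => Subtype.ext (hφ g).symm)⟩
  have hker : Ψ.ker = G.subgroupOf N := by
    ext σ
    rw [MonoidHom.mem_ker, Subgroup.mem_subgroupOf]
    show QuotientGroup.mk' (Inn G) (Φ σ) = 1 ↔ _
    rw [QuotientGroup.mk'_apply, QuotientGroup.eq_one_iff, MonoidHom.mem_range]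
    constructor
    · rintro ⟨a, ha⟩
      have e : (a : Equiv.Perm α)⁻¹ * σ = 1 := by
        refine h.centralizer_eq_one (fun p hp => ?_) fun g hg => ?_
        · show (a : Equiv.Perm α)⁻¹ ((σ : Equiv.Perm α) p) = p
          rw [hNS σ σ.2 p hp, h.out _ (inv_mem a.2) p hp]
        · have e := congrArg (fun u : MulAut G => ((u ⟨g, hg⟩ : G) : Equiv.Perm α)) ha
          change (a : Equiv.Perm α) * g * (a : Equiv.Perm α)⁻¹ =
            (σ : Equiv.Perm α) * g * (σ : Equiv.Perm α)⁻¹ at e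
          calc (a : Equiv.Perm α)⁻¹ * σ * g
              = (a : Equiv.Perm α)⁻¹ * ((σ : Equiv.Perm α) * g * (σ : Equiv.Perm α)⁻¹) * σ := by group
            _ = (a : Equiv.Perm α)⁻¹ * ((a : Equiv.Perm α) * g * (a : Equiv.Perm α)⁻¹) * σ := by rw [e]
            _ = g * ((a : Equiv.Perm α)⁻¹ * σ) := by group
      rw [inv_mul_eq_one] at e
      exact e ▸ a.2
    · intro hσ
      exact ⟨⟨σ, hσ⟩, MulEquiv.ext fun g => Subtype.ext (by simp [Φ, MulAut.conj_apply])⟩
  rw [← hker, Subgroup.index_ker, MonoidHom.range_eq_top.2 hsurj, Subgroup.card_top]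

/-- Double counting: a stable set of `k` points in a group transitive on `t`-subsets. -/
theorem choose_dvd [DecidableEq α] (G : Subgroup (Equiv.Perm α)) (S : Finset α) (t : ℕ)
    (hS : ∀ g ∈ G, g • S = S)
    (htr : ∀ T T' : Finset α, T ⊆ S → T' ⊆ S → T.card = t → T'.card = t → ∃ g ∈ G, g • T = T')
    (X : Subgroup G) (Δ : Finset α) (hΔ : Δ ⊆ S) (hX : ∀ g ∈ X, (g : Equiv.Perm α) • Δ = Δ) :
    S.card.choose t ∣ X.index * Δ.card.choose t := by
  classical
  haveI := Fintype.ofFinite α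
  haveI : Fintype G := Fintype.ofFinite _
  set O : Finset (Finset α) := Finset.univ.image (fun g : G => g • Δ) with hO
  have hOdvd : O.card ∣ X.index := by
    have h1 : O.card = (MulAction.stabilizer G Δ).index := by
      rw [MulAction.index_stabilizer, ← Set.ncard_coe_finset, hO, Finset.coe_image, Finset.coe_univ,
        Set.image_univ]
      rfl
    rw [h1]
    exact Subgroup.index_dvd_of_le fun g hg => hX g hg
  have hOsub : ∀ D ∈ O, D ⊆ S ∧ D.card = Δ.card := by
    intro D hD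
    obtain ⟨g, -, rfl⟩ := Finset.mem_image.1 hD
    refine ⟨?_, Finset.card_smul_finset _ _⟩
    rw [← hS g g.2]
    exact Finset.smul_finset_subset_smul_finset (s := Δ) hΔ
  set c : Finset α → ℕ := fun T => (O.filter fun D => T ⊆ D).card with hc
  have hconst : ∀ T ∈ S.powersetCard t, ∀ T' ∈ S.powersetCard t, c T = c T' := by
    intro T hT T' hT'
    rw [Finset.mem_powersetCard] at hT hT'
    obtain ⟨g, hg, rfl⟩ := htr T T' hT.1 hT'.1 hT.2 hT'.2
    refine Finset.card_bij (fun D _ => g • D) (fun D hD => ?_) (fun _ _ _ _ e => smul_left_cancel g e)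
      (fun D hD => ?_)
    · rw [Finset.mem_filter] at hD ⊢
      obtain ⟨k, -, rfl⟩ := Finset.mem_image.1 hD.1
      exact ⟨Finset.mem_image.2 ⟨⟨g, hg⟩ * k, Finset.mem_univ _, mul_smul _ _ _⟩,
        Finset.smul_finset_subset_smul_finset hD.2⟩
    · rw [Finset.mem_filter] at hD
      obtain ⟨k, -, rfl⟩ := Finset.mem_image.1 hD.1
      refine ⟨(⟨g, hg⟩⁻¹ * k : G) • Δ, ?_, ?_⟩
      · rw [Finset.mem_filter]
        refine ⟨Finset.mem_image.2 ⟨_, Finset.mem_univ _, rfl⟩, ?_⟩
        have := Finset.smul_finset_subset_smul_finset (a := g⁻¹) hD.2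
        rw [inv_smul_smul] at this
        rw [mul_smul]
        exact this
      · rw [mul_smul]
        exact smul_inv_smul g _
  by_cases hne : (S.powersetCard t).Nonempty
  swap
  · rw [Finset.not_nonempty_iff_eq_empty, ← Finset.card_eq_zero, Finset.card_powersetCard,
      Nat.choose_eq_zero_iff] at hne
    rw [Nat.choose_eq_zero_of_lt hne, Nat.choose_eq_zero_of_lt
      (lt_of_le_of_lt (Finset.card_le_card hΔ) hne), mul_zero]
  obtain ⟨T₀, hT₀⟩ := hne
  have key : S.card.choose t * c T₀ = O.card * Δ.card.choose t := by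
    rw [← Finset.card_powersetCard, ← smul_eq_mul, ← smul_eq_mul, ← Finset.sum_const,
      ← Finset.sum_const, Finset.sum_congr rfl fun T hT => hconst T₀ hT₀ T hT]
    have h1 : ∀ D ∈ O, Δ.card.choose t = ((S.powersetCard t).filter fun T => T ⊆ D).card := by
      intro D hD
      rw [← (hOsub D hD).2, ← Finset.card_powersetCard]
      congr 1
      ext T
      simp only [Finset.mem_powersetCard, Finset.mem_filter]
      exact ⟨fun h => ⟨⟨h.1.trans (hOsub D hD).1, h.2⟩, h.1⟩, fun h => ⟨h.2, h.1.2⟩⟩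
    rw [Finset.sum_congr rfl h1]
    exact Finset.sum_card_bipartiteAbove_eq_sum_card_bipartiteBelow (fun T D => T ⊆ D)
      (s := S.powersetCard t) (t := O)
  exact (Dvd.intro _ key).trans (mul_dvd_mul_right hOdvd _)

/-- A subgroup not transitive on `S` whose stable sets can only have one or all but one point
fixes a point of `S`. -/
theorem exists_fixed [DecidableEq α] (G : Subgroup (Equiv.Perm α)) (S : Finset α) (t : ℕ)
    (hS : ∀ g ∈ G, g • S = S)
    (htr : ∀ T T' : Finset α, T ⊆ S → T' ⊆ S → T.card = t → T'.card = t → ∃ g ∈ G, g • T = T')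
    (X : Subgroup G)
    (harith : ∀ k < S.card, 0 < k → S.card.choose t ∣ X.index * k.choose t →
      S.card.choose t ∣ X.index * (S.card - k).choose t → k = 1 ∨ k = S.card - 1)
    (hnt : ¬ ∀ a ∈ S, ∀ b ∈ S, ∃ g ∈ X, (g : Equiv.Perm α) a = b) :
    ∃ p ∈ S, X ≤ pstab G p := by
  classical
  haveI := Fintype.ofFinite α
  obtain ⟨a, ha, b, hb, hab⟩ : ∃ a ∈ S, ∃ b ∈ S, ∀ g ∈ X, (g : Equiv.Perm α) a ≠ b := by
    by_contra hcon
    push Not at hcon
    exact hnt hcon
  set Δ : Finset α := S.filter fun c => ∃ g ∈ X, (g : Equiv.Perm α) a = c with hΔ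
  have hmemS : ∀ g : G, ∀ c, (g : Equiv.Perm α) c ∈ S ↔ c ∈ S := fun g c => by
    conv_lhs => rw [← hS g g.2]
    exact Finset.smul_mem_smul_finset_iff (g : Equiv.Perm α)
  have hinv : ∀ g ∈ X, ∀ c, (g : Equiv.Perm α) c ∈ Δ ↔ c ∈ Δ := by
    intro g hg c
    rw [hΔ, Finset.mem_filter, Finset.mem_filter, hmemS]
    refine and_congr_right fun _ => ⟨?_, ?_⟩
    · rintro ⟨k, hk, e⟩
      exact ⟨g⁻¹ * k, X.mul_mem (X.inv_mem hg) hk, by
        show (g : Equiv.Perm α)⁻¹ ((k : Equiv.Perm α) a) = c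
        rw [e]; exact Equiv.symm_apply_apply _ _⟩
    · rintro ⟨k, hk, e⟩
      exact ⟨g * k, X.mul_mem hg hk, by
        show (g : Equiv.Perm α) ((k : Equiv.Perm α) a) = (g : Equiv.Perm α) c
        rw [e]⟩
  have hfix : ∀ (D : Finset α), (∀ g ∈ X, ∀ c, (g : Equiv.Perm α) c ∈ D ↔ c ∈ D) → ∀ g ∈ X,
      (g : Equiv.Perm α) • D = D := by
    intro D hD g hg
    refine Finset.eq_of_subset_of_card_le (fun c hc => ?_) (Finset.card_smul_finset _ _).ge
    obtain ⟨d, hd, rfl⟩ := Finset.mem_smul_finset.1 hc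
    exact (hD g hg d).2 hd
  have hinv' : ∀ g ∈ X, ∀ c, (g : Equiv.Perm α) c ∈ S \ Δ ↔ c ∈ S \ Δ := fun g hg c => by
    rw [Finset.mem_sdiff, Finset.mem_sdiff, hmemS, hinv g hg]
  have haΔ : a ∈ Δ := Finset.mem_filter.2 ⟨ha, 1, one_mem _, rfl⟩
  have hbΔ : b ∈ S \ Δ := Finset.mem_sdiff.2 ⟨hb, fun h => by
    obtain ⟨-, g, hg, e⟩ := Finset.mem_filter.1 h
    exact hab g hg e⟩
  have hsub : Δ ⊆ S := Finset.filter_subset _ _
  have hc1 := choose_dvd G S t hS htr X Δ hsub (hfix Δ hinv)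
  have hc2 := choose_dvd G S t hS htr X (S \ Δ) Finset.sdiff_subset (hfix _ hinv')
  have hpos : 0 < (S \ Δ).card := Finset.card_pos.2 ⟨b, hbΔ⟩
  rw [Finset.card_sdiff_of_subset hsub] at hc2 hpos
  rcases harith Δ.card (by omega) (Finset.card_pos.2 ⟨a, haΔ⟩) hc1 hc2 with h | h
  · refine ⟨a, ha, fun g hg => ?_⟩
    obtain ⟨c, hc⟩ := Finset.card_eq_one.1 h
    have h1 := (hinv g hg a).2 haΔ
    rw [hc, Finset.mem_singleton] at h1 haΔ
    exact h1.trans haΔ.symm
  · refine ⟨b, hb, fun g hg => ?_⟩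
    obtain ⟨c, hc⟩ := Finset.card_eq_one.1 (show (S \ Δ).card = 1 by
      rw [Finset.card_sdiff_of_subset hsub]; omega)
    have h1 := (hinv' g hg b).2 hbΔ
    rw [hc, Finset.mem_singleton] at h1 hbΔ
    exact h1.trans hbΔ.symm

/-- The outer automorphism group only depends on the isomorphism type. -/
theorem card_out_congr {A B : Type u} [Group A] [Group B] (e : A ≃* B) :
    Nat.card (Cfsg.Out A) = Nat.card (Cfsg.Out B) := by
  have hmap : (Inn A).map (MulAut.congr e).toMonoidHom = Inn B := by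
    ext ψ
    constructor
    · rintro ⟨-, ⟨a, rfl⟩, rfl⟩
      exact ⟨e a, MulEquiv.ext fun x => by simp [MulAut.congr, MulAut.conj_apply]⟩
    · rintro ⟨b, rfl⟩
      exact ⟨MulAut.conj (e.symm b), ⟨_, rfl⟩,
        MulEquiv.ext fun x => by simp [MulAut.congr, MulAut.conj_apply]⟩
  exact Nat.card_congr (QuotientGroup.congr (Inn A) (Inn B) (MulAut.congr e) hmap).toEquiv

end Cfsg.Agent.TwoGroups.OutMathieu
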