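import Mathlib
import Cfsg.Agent.Golay.Mathieu
import Cfsg.Agent.TwoGroups.OutMathieu.Generic

/-!
# Subgroups of index 22, 23, 24 of the Mathieu groups
-/

set_option autoImplicit false
set_option maxRecDepth 20000
set_option linter.style.haveILetI false

open Cfsg Cfsg.Agent.Golay
open scoped Pointwise

namespace Cfsg.Agent.TwoGroups.OutMathieu

/-- The elements of `M24` fixing the points of a list. -/
def fixList (l : List GolayPt) : Subgroup (Equiv.Perm GolayPt) :=
  M24 ⊓ fixingSubgroup (Equiv.Perm GolayPt) ({p | p ∈ l} : Set GolayPt)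

theorem mem_fixList {l : List GolayPt} {g : Equiv.Perm GolayPt} :
    g ∈ fixList l ↔ g ∈ M24 ∧ ∀ p ∈ l, g p = p := by
  rw [fixList, Subgroup.mem_inf, mem_fixingSubgroup_iff]
  rfl

theorem fixList_stable (l : List GolayPt) {g : Equiv.Perm GolayPt} (hg : g ∈ fixList l) :
    g • l.toFinsetᶜ = l.toFinsetᶜ := by
  refine Finset.eq_of_subset_of_card_le (fun x hx => ?_) (Finset.card_smul_finset _ _).ge
  obtain ⟨y, hy, rfl⟩ := Finset.mem_smul_finset.1 hx
  rw [Finset.mem_compl, List.mem_toFinset] at hy ⊢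
  intro h
  exact hy ((g.injective ((mem_fixList.1 hg).2 _ h)) ▸ h)

/-- `M24` moves any list of at most five distinct points to any other. -/
theorem fixList_move (l : List GolayPt) (s s' : List GolayPt)
    (hs : (l ++ s).Nodup) (hs' : (l ++ s').Nodup) (hlen : s.length = s'.length)
    (h5 : l.length + s.length ≤ 5) : ∃ g ∈ fixList l, s.map g = s' := by
  obtain ⟨g, hg, hm⟩ := exists_mem_M24_list _ _ hs hs' (by simp [hlen]) (by simpa using h5)
  rw [List.map_append] at hm
  obtain ⟨h1, h2⟩ := List.append_inj hm (by simp)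
  exact ⟨g, mem_fixList.2 ⟨hg, fun p hp =>
    (List.map_eq_map_iff.1 (h1.trans (List.map_id _).symm)) p hp⟩, h2⟩

theorem fixList_subsets (l : List GolayPt) (hl : l.Nodup) {t : ℕ} (h5 : l.length + t ≤ 5)
    (T T' : Finset GolayPt) (hT : T ⊆ l.toFinsetᶜ) (hT' : T' ⊆ l.toFinsetᶜ) (hTc : T.card = t)
    (hTc' : T'.card = t) : ∃ g ∈ fixList l, g • T = T' := by
  have nd : ∀ U : Finset GolayPt, U ⊆ l.toFinsetᶜ → (l ++ U.toList).Nodup := fun U hU => by
    refine List.nodup_append'.2 ⟨hl, U.nodup_toList, fun q hq hq' => ?_⟩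
    have := Finset.mem_compl.1 (hU (Finset.mem_toList.1 hq'))
    exact this (List.mem_toFinset.2 hq)
  obtain ⟨g, hg, hm⟩ := fixList_move l T.toList T'.toList (nd T hT) (nd T' hT')
    (by simp [hTc, hTc']) (by simpa [hTc] using h5)
  refine ⟨g, hg, ?_⟩
  ext x
  rw [Finset.mem_smul_finset, ← Finset.mem_toList (s := T'), ← hm, List.mem_map]
  simp [Finset.mem_toList]

theorem card_ge (l : List GolayPt) {k : ℕ} (h : l.length ≤ k) : 24 - k ≤ (l.toFinsetᶜ).card := by
  rw [Finset.card_compl, card_golayPt]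
  have := List.toFinset_card_le l
  omega

theorem card_compl_nodup (l : List GolayPt) (hl : l.Nodup) :
    (l.toFinsetᶜ).card = 24 - l.length := by
  rw [Finset.card_compl, card_golayPt, List.toFinset_card_of_nodup hl]

theorem pstab_index (l : List GolayPt) (hl : l.Nodup) (h5 : l.length ≤ 4) {p : GolayPt}
    (hp : p ∈ l.toFinsetᶜ) : (pstab (fixList l) p).index = 24 - l.length := by
  have hst : pstab (fixList l) p = MulAction.stabilizer (fixList l) p := rfl
  rw [hst, MulAction.index_stabilizer, ← card_compl_nodup l hl, ← Set.ncard_coe_finset]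
  congr 1
  ext q
  rw [Finset.mem_coe]
  constructor
  · rintro ⟨g, rfl⟩
    show (g : Equiv.Perm GolayPt) p ∈ l.toFinsetᶜ
    rw [← fixList_stable l g.2]
    exact Finset.smul_mem_smul_finset hp
  · intro hq
    rw [Finset.mem_compl, List.mem_toFinset] at hp hq
    obtain ⟨g, hg, hm⟩ := fixList_move l [p] [q]
      (by simp [List.nodup_append', hl, hp]) (by simp [List.nodup_append', hl, hq]) rfl
      (by simp; omega)
    exact ⟨⟨g, hg⟩, by simpa using hm⟩

theorem pstab_inj (l : List GolayPt) (hl : l.Nodup) (h5 : l.length ≤ 3) {p q : GolayPt}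
    (hp : p ∈ l.toFinsetᶜ) (hq : q ∈ l.toFinsetᶜ) (h : pstab (fixList l) p = pstab (fixList l) q) :
    p = q := by
  by_contra hpq
  obtain ⟨r, hr⟩ : (l.toFinsetᶜ \ {p, q}).Nonempty := by
    rw [← Finset.card_pos]
    have h1 := Finset.le_card_sdiff ({p, q} : Finset GolayPt) l.toFinsetᶜ
    have h2 : ({p, q} : Finset GolayPt).card ≤ 2 := Finset.card_le_two
    rw [card_compl_nodup l hl] at h1
    omega
  simp only [Finset.mem_sdiff, Finset.mem_compl, List.mem_toFinset, Finset.mem_insert,
    Finset.mem_singleton, not_or] at hp hq hr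
  obtain ⟨g, hg, hm⟩ := fixList_move l [p, q] [p, r]
    (by simp [List.nodup_append', hl, hp, hq, hpq])
    (by simp [List.nodup_append', hl, hp, hr.1, Ne.symm hr.2.1]) rfl (by simp; omega)
  simp only [List.map_cons, List.map_nil, List.cons.injEq, and_true] at hm
  have h1 : (⟨g, hg⟩ : fixList l) ∈ pstab (fixList l) q := h ▸ mem_pstab.2 hm.1
  exact hr.2.2 (hm.2.symm.trans h1)

/-- A subgroup of the right index fixing a point is that point stabiliser. -/
theorem eq_pstab (l : List GolayPt) (hl : l.Nodup) (h5 : l.length ≤ 4) {p : GolayPt}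
    (hp : p ∈ l.toFinsetᶜ) {X : Subgroup (fixList l)} (hX : X.index = 24 - l.length)
    (hle : X ≤ pstab (fixList l) p) : X = pstab (fixList l) p := by
  refine Subgroup.eq_of_le_of_card_ge hle (le_of_eq ?_)
  have h1 := (pstab (fixList l) p).index_mul_card
  have h2 := X.index_mul_card
  rw [pstab_index l hl h5 hp] at h1
  rw [hX, ← h1] at h2
  exact (Nat.eq_of_mul_eq_mul_left (by omega) h2).symm

/-- A transitive subgroup has order divisible by the number of points. -/
theorem dvd_card_of_transitive (l : List GolayPt) (hl : l.Nodup) (h5 : l.length ≤ 4)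
    {X : Subgroup (fixList l)}
    (htr : ∀ a ∈ l.toFinsetᶜ, ∀ b ∈ l.toFinsetᶜ, ∃ g ∈ X, (g : Equiv.Perm GolayPt) a = b) :
    24 - l.length ∣ Nat.card X := by
  obtain ⟨a, ha⟩ : (l.toFinsetᶜ).Nonempty := by
    rw [← Finset.card_pos, card_compl_nodup l hl]; omega
  have horb : MulAction.orbit X a = ↑(l.toFinsetᶜ) := by
    ext b
    rw [Finset.mem_coe]
    constructor
    · rintro ⟨g, rfl⟩
      show (g.1 : Equiv.Perm GolayPt) a ∈ l.toFinsetᶜ
      rw [← fixList_stable l g.1.2]
      exact Finset.smul_mem_smul_finset ha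
    · intro hb
      obtain ⟨g, hg, e⟩ := htr a ha b hb
      exact ⟨⟨g, hg⟩, e⟩
  rw [← card_compl_nodup l hl, ← Set.ncard_coe_finset, ← horb, ← MulAction.index_stabilizer]
  exact Subgroup.index_dvd_card _

theorem card_fixList_one (p : GolayPt) : Nat.card (fixList [p]) = 10200960 := by
  rw [← M24_stab_card p]
  refine Nat.card_congr (Equiv.setCongr (Set.ext fun g => ?_))
  show g ∈ fixList [p] ↔ g ∈ M24 ⊓ MulAction.stabilizer (Equiv.Perm GolayPt) p
  rw [mem_fixList, Subgroup.mem_inf, MulAction.mem_stabilizer_iff]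
  simp

theorem card_fixList_two {p q : GolayPt} (hpq : p ≠ q) : Nat.card (fixList [p, q]) = 443520 := by
  rw [← M24_stab2_card hpq]
  refine Nat.card_congr (Equiv.setCongr (Set.ext fun g => ?_))
  show g ∈ fixList [p, q] ↔ g ∈ M24 ⊓ MulAction.stabilizer (Equiv.Perm GolayPt) p ⊓
    MulAction.stabilizer (Equiv.Perm GolayPt) q
  rw [mem_fixList, Subgroup.mem_inf, Subgroup.mem_inf, MulAction.mem_stabilizer_iff,
    MulAction.mem_stabilizer_iff]
  simp [and_assoc]

theorem arith23 : ∀ k < 23, 0 < k → Nat.choose 23 3 ∣ 23 * k.choose 3 →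
    Nat.choose 23 3 ∣ 23 * (23 - k).choose 3 → k = 1 ∨ k = 23 - 1 := by decide +kernel

theorem arith22 : ∀ k < 22, 0 < k → Nat.choose 22 3 ∣ 22 * k.choose 3 →
    Nat.choose 22 3 ∣ 22 * (22 - k).choose 3 → k = 1 ∨ k = 22 - 1 := by decide +kernel

theorem arith24 : ∀ k < 24, 0 < k → Nat.choose 24 3 ∣ 24 * k.choose 3 →
    Nat.choose 24 3 ∣ 24 * (24 - k).choose 3 → k = 1 ∨ k = 24 - 1 := by decide +kernel

theorem rigid_one (p₀ : GolayPt) : Rigid (fixList [p₀]) ↑([p₀].toFinsetᶜ) 23 where
  out g hg p hp := (mem_fixList.1 hg).2 p (by simpa using hp)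
  idx p hp := pstab_index [p₀] (by simp) (by simp) hp
  inj p hp q hq h := pstab_inj [p₀] (by simp) (by simp) hp hq h
  cls X hX := by
    have hS : ([p₀].toFinsetᶜ).card = 23 := card_compl_nodup [p₀] (by simp)
    obtain ⟨p, hp, hle⟩ := exists_fixed (fixList [p₀]) ([p₀].toFinsetᶜ) 3
      (fun g hg => fixList_stable _ hg) (fixList_subsets _ (by simp) (by simp)) X
      (by rw [hS, hX]; exact arith23) (fun htr => by
        have h1 := dvd_card_of_transitive [p₀] (by simp) (by simp) htr
        have h2 := X.index_mul_card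
        rw [hX, card_fixList_one] at h2
        simp only [List.length_cons, List.length_nil] at h1
        omega)
    exact ⟨p, hp, eq_pstab [p₀] (by simp) (by simp) hp hX hle⟩

theorem rigid_two {p₀ q₀ : GolayPt} (hpq : p₀ ≠ q₀) :
    Rigid (fixList [p₀, q₀]) ↑([p₀, q₀].toFinsetᶜ) 22 where
  out g hg p hp := (mem_fixList.1 hg).2 p (by simp at hp ⊢; tauto)
  idx p hp := pstab_index [p₀, q₀] (by simp [hpq]) (by simp) hp
  inj p hp q hq h := pstab_inj [p₀, q₀] (by simp [hpq]) (by simp) hp hq h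
  cls X hX := by
    have hl : [p₀, q₀].Nodup := by simp [hpq]
    have hS : ([p₀, q₀].toFinsetᶜ).card = 22 := card_compl_nodup [p₀, q₀] hl
    obtain ⟨p, hp, hle⟩ := exists_fixed (fixList [p₀, q₀]) ([p₀, q₀].toFinsetᶜ) 3
      (fun g hg => fixList_stable _ hg) (fixList_subsets _ hl (by simp)) X
      (by rw [hS, hX]; exact arith22) (fun htr => by
        have h1 := dvd_card_of_transitive [p₀, q₀] hl (by simp) htr
        have h2 := X.index_mul_card
        rw [hX, card_fixList_two hpq] at h2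
        simp only [List.length_cons, List.length_nil] at h1
        omega)
    exact ⟨p, hp, eq_pstab [p₀, q₀] hl (by simp) hp hX hle⟩

end Cfsg.Agent.TwoGroups.OutMathieu
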