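import Mathlib
import Cfsg.Agent.Golay.SmallSteinerAut
import Cfsg.Agent.Golay.CodeFacts
import Cfsg.Agent.M24Orbits.Hexad

/-!
# Permutations of a dodecad normalising its stabiliser
-/

set_option autoImplicit false
set_option maxRecDepth 20000

open Cfsg Cfsg.Agent.Golay
open scoped Pointwise

namespace Cfsg.Agent.TwoGroups.OutMathieu

variable {d : Finset GolayPt}

theorem octad_meet_six (hd : d ∈ dodecads) {o : Finset GolayPt} (ho : o ∈ octads)
    (h : 5 ≤ (o ∩ d).card) : o ∩ d ∈ hexadsOn d := by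
  refine ⟨?_, o, ho, rfl⟩
  rcases inter_octad_dodecad ho hd with e | e | e <;> omega

theorem hexad_exists (hd : d ∈ dodecads) {T : Finset GolayPt} (hT : T ⊆ d) (hc : T.card = 5) :
    ∃ h ∈ hexadsOn d, T ⊆ h := by
  obtain ⟨o, ho, hTo⟩ := exists_octad_of_five T hc
  have hsub : T ⊆ o ∩ d := Finset.subset_inter hTo hT
  exact ⟨o ∩ d, octad_meet_six hd ho (hc ▸ Finset.card_le_card hsub), hsub⟩

theorem hexad_unique {h h' T : Finset GolayPt} (hh : h ∈ hexadsOn d) (hh' : h' ∈ hexadsOn d)
    (hT : T ⊆ h) (hT' : T ⊆ h') (hc : 5 ≤ T.card) : h = h' := by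
  obtain ⟨-, o, ho, rfl⟩ := hh
  obtain ⟨-, o', ho', rfl⟩ := hh'
  rw [octad_eq_of_five_le ho ho' (hc.trans (Finset.card_le_card (Finset.subset_inter
    (hT.trans Finset.inter_subset_left) (hT'.trans Finset.inter_subset_left))))]

theorem hexad_smul {h : Finset GolayPt} (hh : h ∈ hexadsOn d) {g : Equiv.Perm GolayPt}
    (hg : g ∈ M24) (hgd : g • d = d) : g • h ∈ hexadsOn d := by
  obtain ⟨hc, o, ho, rfl⟩ := hh
  exact ⟨by rw [Finset.card_smul_finset, hc], g • o, smul_mem_octads hg ho, by
    rw [Finset.smul_finset_inter, hgd]⟩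

theorem hexad_compl (hd : d ∈ dodecads) {h : Finset GolayPt} (hh : h ∈ hexadsOn d) :
    d \ h ∈ hexadsOn d := by
  obtain ⟨hc, o, ho, rfl⟩ := hh
  refine ⟨?_, symmDiff o d, ⟨symmDiff_mem_supports ho.1 hd.1, ?_⟩, ?_⟩
  · rw [Finset.card_sdiff_of_subset Finset.inter_subset_right, card_dodecad hd, hc]
  · have := card_symmDiff_add (s := o) (t := d)
    rw [card_octad ho, card_dodecad hd, hc] at this
    omega
  · ext p
    simp [Finset.mem_symmDiff]
    tauto

/-- The hexads, as sets of points of the dodecad. -/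
def hexSys (d : Finset GolayPt) : Set (Finset {p // p ∈ d}) :=
  {b | b.map (Function.Embedding.subtype _) ∈ hexadsOn d}

theorem map_subset (b : Finset {p // p ∈ d}) : b.map (Function.Embedding.subtype _) ⊆ d := by
  intro p hp
  obtain ⟨q, -, rfl⟩ := Finset.mem_map.1 hp
  exact q.2

theorem exists_map_eq {s : Finset GolayPt} (hs : s ⊆ d) :
    ∃ b : Finset {p // p ∈ d}, b.map (Function.Embedding.subtype _) = s :=
  ⟨s.subtype (· ∈ d), Finset.subtype_map_of_mem fun _ hx => hs hx⟩

theorem hexSys_steiner (hd : d ∈ dodecads) : IsSteinerSystem 5 6 (hexSys d) := by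
  refine ⟨fun b hb => by rw [← Finset.card_map (Function.Embedding.subtype _)]; exact hb.1, fun s hs => ?_⟩
  obtain ⟨h, hh, hsub⟩ := hexad_exists hd (map_subset s) (by rw [Finset.card_map, hs])
  obtain ⟨b, hb⟩ := exists_map_eq (M24Orbits.hexad_subset hh)
  refine ⟨b, ⟨show _ ∈ hexadsOn d by rw [hb]; exact hh, ?_⟩, fun b' ⟨hb', hs'⟩ => ?_⟩
  · rw [← Finset.map_subset_map (f := Function.Embedding.subtype _), hb]
    exact hsub
  · refine Finset.map_injective (Function.Embedding.subtype _) ?_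
    rw [hb]
    exact hexad_unique hb' hh (Finset.map_subset_map.2 hs') hsub (by rw [Finset.card_map, hs])

/-- Restriction of the stabiliser of the dodecad to its points. -/
noncomputable def dodRes (d : Finset GolayPt) :
    ↥(M24 ⊓ MulAction.stabilizer (Equiv.Perm GolayPt) d) →* Equiv.Perm {p // p ∈ d} where
  toFun g := (g.1 : Equiv.Perm GolayPt).subtypePerm fun p => by
    have h : g.1 • d = d := g.2.2
    have h2 : g.1 • p ∈ g.1 • d ↔ p ∈ d := Finset.smul_mem_smul_finset_iff _
    simpa [h] using h2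
  map_one' := Equiv.ext fun _ => rfl
  map_mul' _ _ := Equiv.ext fun _ => rfl

theorem dodRes_apply (g : ↥(M24 ⊓ MulAction.stabilizer (Equiv.Perm GolayPt) d)) (p : {p // p ∈ d}) :
    ((dodRes d g p : {p // p ∈ d}) : GolayPt) = (g : Equiv.Perm GolayPt) p := rfl

theorem map_smul_sub {σ : Equiv.Perm {p // p ∈ d}} {g : Equiv.Perm GolayPt}
    (h : ∀ p, ((σ p : {p // p ∈ d}) : GolayPt) = g p) (b : Finset {p // p ∈ d}) :
    (σ • b).map (Function.Embedding.subtype _) = g • b.map (Function.Embedding.subtype _) := by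
  ext q
  constructor
  · intro hq
    obtain ⟨x, hx, rfl⟩ := Finset.mem_map.1 hq
    obtain ⟨y, hy, rfl⟩ := Finset.mem_smul_finset.1 hx
    exact Finset.mem_smul_finset.2 ⟨y, Finset.mem_map_of_mem _ hy, (h y).symm⟩
  · intro hq
    obtain ⟨x, hx, rfl⟩ := Finset.mem_smul_finset.1 hq
    obtain ⟨y, hy, rfl⟩ := Finset.mem_map.1 hx
    exact Finset.mem_map.2 ⟨σ y, Finset.smul_mem_smul_finset hy, h y⟩

theorem dodRes_mem (g : ↥(M24 ⊓ MulAction.stabilizer (Equiv.Perm GolayPt) d)) :
    dodRes d g ∈ setSystemAut (hexSys d) := by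
  refine mem_setSystemAut fun b hb => ?_
  show _ ∈ hexadsOn d
  rw [map_smul_sub (dodRes_apply g)]
  exact hexad_smul hb g.2.1 g.2.2

theorem dodRes_injective (hd : d ∈ dodecads) : Function.Injective (dodRes d) := by
  rw [injective_iff_map_eq_one]
  intro g hg
  refine Subtype.ext (M24Orbits.fix_five_subset hd g.2.1 g.2.2 (s := d) le_rfl
    (by rw [card_dodecad hd]; norm_num) fun p hp => ?_)
  have := congrArg (fun σ : Equiv.Perm {p // p ∈ d} => ((σ ⟨p, hp⟩ : {p // p ∈ d}) : GolayPt)) hg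
  exact this

/-- The automorphisms of the hexad system are the restrictions from the stabiliser. -/
theorem mem_range_of_aut (hd : d ∈ dodecads) {σ : Equiv.Perm {p // p ∈ d}}
    (hσ : σ ∈ setSystemAut (hexSys d)) : σ ∈ (dodRes d).range := by
  have hα : Fintype.card {p // p ∈ d} = 12 := by rw [Fintype.card_coe, card_dodecad hd]
  obtain ⟨x⟩ : Nonempty (Fin 5 ↪ {p // p ∈ d}) :=
    Function.Embedding.nonempty_of_card_le (by rw [Fintype.card_fin, hα]; norm_num)
  obtain ⟨g, hg, hgd, hgi⟩ := exists_mem_dodecad_stab hd le_rfl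
    (x.trans (Function.Embedding.subtype _))
    ((x.trans σ.toEmbedding).trans (Function.Embedding.subtype _))
    (fun i => (x i).2) (fun i => (σ (x i)).2)
  refine ⟨⟨g, hg, hgd⟩, ?_⟩
  have hsharp := (aut12 hα (hexSys_steiner hd)).2.2 x
  have hmem : (⟨σ, hσ⟩⁻¹ * ⟨_, dodRes_mem ⟨g, hg, hgd⟩⟩ : setSystemAut (hexSys d)) ∈
      MulAction.stabilizer (setSystemAut (hexSys d)) x := by
    rw [MulAction.mem_stabilizer_iff]
    refine DFunLike.ext _ _ fun i => ?_
    show σ⁻¹ (dodRes d ⟨g, hg, hgd⟩ (x i)) = x i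
    rw [show dodRes d ⟨g, hg, hgd⟩ (x i) = σ (x i) from Subtype.ext (hgi i)]
    exact σ.symm_apply_apply _
  rw [hsharp, Subgroup.mem_bot, inv_mul_eq_one] at hmem
  exact (congrArg Subtype.val hmem).symm

/-- A permutation of the dodecad fixing `F` (at most one point) and carrying the elements of the
stabiliser fixing `F` into the stabiliser is induced by the stabiliser. -/
theorem mem_range_of_normalise (hd : d ∈ dodecads) {σ : Equiv.Perm {p // p ∈ d}}
    {F : Finset {p // p ∈ d}} (hF : F.card ≤ 1) (hσF : ∀ p ∈ F, σ p = p)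
    (hσ : ∀ g ∈ (dodRes d).range, (∀ p ∈ F, g p = p) → σ⁻¹ * g * σ ∈ (dodRes d).range) :
    σ ∈ (dodRes d).range := by
  classical
  have hst := hexSys_steiner hd
  have through : ∀ h ∈ hexSys d, F ⊆ h → σ • h ∈ hexSys d := by
    intro h hh hFh
    have hc : (σ • h).card = 6 := by rw [Finset.card_smul_finset, hst.1 h hh]
    have hsub : F ⊆ σ • h := fun p hp => Finset.mem_smul_finset.2 ⟨p, hFh hp, hσF p hp⟩
    obtain ⟨T, hFT, hTs, hTc⟩ := Finset.exists_subsuperset_card_eq hsub (show F.card ≤ 5 by omega)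
      (by rw [hc]; norm_num)
    obtain ⟨h', ⟨hh', hTh'⟩, -⟩ := hst.2 T hTc
    by_contra hne
    -- two points of `T` outside `F`
    obtain ⟨u, hu, v, hv, huv⟩ := Finset.one_lt_card.1 (show 1 < (T \ F).card by
      have := Finset.le_card_sdiff F T
      omega)
    rw [Finset.mem_sdiff] at hu hv
    -- transpose them
    obtain ⟨e⟩ : Nonempty (Fin 5 ≃ T) := ⟨(finCongr hTc.symm).trans T.equivFin.symm⟩
    let x : Fin 5 ↪ GolayPt :=
      e.toEmbedding.trans ((Function.Embedding.subtype _).trans (Function.Embedding.subtype _))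
    let y : Fin 5 ↪ GolayPt := e.toEmbedding.trans
      (((Equiv.swap (⟨u, hu.1⟩ : T) ⟨v, hv.1⟩).toEmbedding).trans
        ((Function.Embedding.subtype _).trans (Function.Embedding.subtype _)))
    obtain ⟨g, hg, hgd, hgi⟩ := exists_mem_dodecad_stab hd le_rfl x y
      (fun i => (e i).1.2) (fun i => (Equiv.swap (⟨u, hu.1⟩ : T) ⟨v, hv.1⟩ (e i)).1.2)
    set γ := dodRes d ⟨g, hg, hgd⟩ with hγdef
    have hγ : ∀ t (ht : t ∈ T), γ t = (Equiv.swap (⟨u, hu.1⟩ : T) ⟨v, hv.1⟩ ⟨t, ht⟩ : T).1 := by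
      intro t ht
      obtain ⟨i, hi⟩ := e.surjective ⟨t, ht⟩
      have h1 := hgi i
      refine Subtype.ext ?_
      rw [hγdef, dodRes_apply]
      have hx : x i = (t : GolayPt) := by show ((e i).1 : GolayPt) = _; rw [hi]
      have hy : y i = ((Equiv.swap (⟨u, hu.1⟩ : T) ⟨v, hv.1⟩ ⟨t, ht⟩ : T).1 : GolayPt) := by
        show ((Equiv.swap (⟨u, hu.1⟩ : T) ⟨v, hv.1⟩ (e i)).1 : GolayPt) = _
        rw [hi]
      rw [hx, hy] at h1
      exact h1
    have hγT : γ • T = T := by
      refine Finset.eq_of_subset_of_card_le (fun t ht => ?_) (Finset.card_smul_finset _ _).ge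
      obtain ⟨s, hs, rfl⟩ := Finset.mem_smul_finset.1 ht
      rw [Equiv.Perm.smul_def, hγ s hs]
      exact Subtype.coe_prop _
    have hγF : ∀ p ∈ F, γ p = p := fun p hp => by
      rw [hγ p (hFT hp), Equiv.swap_apply_of_ne_of_ne]
      · exact fun e' => hu.2 (by have e2 : p = u := congrArg Subtype.val e'; rwa [← e2])
      · exact fun e' => hv.2 (by have e2 : p = v := congrArg Subtype.val e'; rwa [← e2])
    obtain ⟨k, hk⟩ := hσ γ ⟨_, rfl⟩ hγF
    -- the conjugate preserves `h`, hence `γ` preserves `σ • h`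
    have hfix : γ • (σ • h) = σ • h := by
      have hkT : (σ⁻¹ * γ * σ) • (σ⁻¹ • T) = σ⁻¹ • T := by
        rw [mul_smul, mul_smul, smul_inv_smul, hγT]
      have hTh : σ⁻¹ • T ⊆ h := by
        rw [← inv_smul_smul σ h]
        exact Finset.smul_finset_subset_smul_finset hTs
      have hmem : (σ⁻¹ * γ * σ) • h ∈ hexSys d := by
        rw [← hk]; exact setSystemAut_maps (dodRes_mem k) hh
      have heq : (σ⁻¹ * γ * σ) • h = h :=
        ((hst.2 (σ⁻¹ • T) (by rw [Finset.card_smul_finset, hTc])).unique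
          ⟨hmem, by rw [← hkT]; exact Finset.smul_finset_subset_smul_finset hTh⟩ ⟨hh, hTh⟩)
      rwa [mul_smul, mul_smul, inv_smul_eq_iff] at heq
    have hfix' : γ • h' = h' :=
      ((hst.2 T hTc).unique ⟨setSystemAut_maps (dodRes_mem ⟨g, hg, hgd⟩) hh',
        by rw [← hγT]; exact Finset.smul_finset_subset_smul_finset hTh'⟩ ⟨hh', hTh'⟩)
    -- so `γ` fixes the sixth point of each, and three points of `T`
    obtain ⟨q, hq⟩ : ((σ • h) \ T).Nonempty := by
      rw [← Finset.card_pos, Finset.card_sdiff_of_subset hTs, hc, hTc]; norm_num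
    obtain ⟨r, hr⟩ : (h' \ T).Nonempty := by
      rw [← Finset.card_pos, Finset.card_sdiff_of_subset hTh', hst.1 h' hh', hTc]; norm_num
    have single : ∀ (S : Finset {p // p ∈ d}), T ⊆ S → S.card = 6 → γ • S = S →
        ∀ q ∈ S \ T, γ q = q := by
      intro S hTS hS hγS q hq
      obtain ⟨z, hz⟩ := Finset.card_eq_one.1 (show (S \ T).card = 1 by
        rw [Finset.card_sdiff_of_subset hTS, hS, hTc])
      have h1 : γ q ∈ S \ T := by
        rw [← hγS, ← hγT, ← Finset.smul_finset_sdiff]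
        exact Finset.smul_mem_smul_finset hq
      rw [hz, Finset.mem_singleton] at h1 hq
      rw [h1, hq]
    have hqr : q ≠ r := fun e' => by
      apply hne
      have : σ • h = h' := by
        rw [← Finset.union_sdiff_of_subset hTs, ← Finset.union_sdiff_of_subset hTh']
        obtain ⟨z, hz⟩ := Finset.card_eq_one.1 (show ((σ • h) \ T).card = 1 by
          rw [Finset.card_sdiff_of_subset hTs, hc, hTc])
        obtain ⟨w, hw⟩ := Finset.card_eq_one.1 (show (h' \ T).card = 1 by
          rw [Finset.card_sdiff_of_subset hTh', hst.1 h' hh', hTc])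
        rw [hz, Finset.mem_singleton] at hq
        rw [hw, Finset.mem_singleton] at hr
        rw [hz, hw, ← hq, ← hr, e']
      rw [this]; exact hh'
    set s : Finset GolayPt := ((((T.erase u).erase v) ∪ {q, r}).map (Function.Embedding.subtype _))
    have hs5 : s.card = 5 := by
      rw [Finset.card_map, Finset.card_union_of_disjoint, Finset.card_pair hqr,
        Finset.card_erase_of_mem (Finset.mem_erase.2 ⟨huv.symm, hv.1⟩), Finset.card_erase_of_mem hu.1, hTc]
      rw [Finset.disjoint_left]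
      intro p hp hp'
      have hpT := Finset.mem_of_mem_erase (Finset.mem_of_mem_erase hp)
      simp only [Finset.mem_insert, Finset.mem_singleton] at hp'
      rcases hp' with rfl | rfl
      · exact (Finset.mem_sdiff.1 hq).2 hpT
      · exact (Finset.mem_sdiff.1 hr).2 hpT
    have hone : (g : Equiv.Perm GolayPt) = 1 := by
      refine M24Orbits.fix_five_subset hd hg hgd (s := s) (map_subset _) hs5.ge fun p hp => ?_
      obtain ⟨w, hw, rfl⟩ := Finset.mem_map.1 hp
      have hγw : γ w = w := by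
        rcases Finset.mem_union.1 hw with hw | hw
        · simp only [Finset.mem_erase] at hw
          rw [hγ w hw.2.2, Equiv.swap_apply_of_ne_of_ne]
          · exact fun e' => hw.2.1 (congrArg Subtype.val e')
          · exact fun e' => hw.1 (congrArg Subtype.val e')
        · simp only [Finset.mem_insert, Finset.mem_singleton] at hw
          rcases hw with rfl | rfl
          · exact single _ hTs hc hfix _ hq
          · exact single _ hTh' (hst.1 h' hh') hfix' _ hr
      exact congrArg Subtype.val hγw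
    have hswap := hγ u hu.1
    rw [Equiv.swap_apply_left] at hswap
    have hid : γ u = u := Subtype.ext (show g (u : GolayPt) = (u : GolayPt) by rw [hone]; rfl)
    exact huv (hid.symm.trans hswap)
  refine mem_range_of_aut hd (mem_setSystemAut fun h hh => ?_)
  by_cases hFh : F ⊆ h
  · exact through h hh hFh
  obtain ⟨p, hpF, hph⟩ := Finset.not_subset.1 hFh
  have hFp : F = {p} := Finset.eq_singleton_iff_unique_mem.2
    ⟨hpF, fun q hq => Finset.card_le_one.1 hF q hq p hpF⟩
  have hcompl : ∀ b : Finset {p // p ∈ d}, b ∈ hexSys d → bᶜ ∈ hexSys d := by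
    intro b hb
    show _ ∈ hexadsOn d
    convert hexad_compl hd hb using 1
    ext q
    simp only [Finset.mem_map, Finset.mem_compl, Function.Embedding.coe_subtype, Finset.mem_sdiff]
    constructor
    · rintro ⟨w, hw, rfl⟩
      exact ⟨w.2, fun ⟨w', hw', e⟩ => hw (Subtype.ext e ▸ hw')⟩
    · rintro ⟨hqd, hq⟩
      exact ⟨⟨q, hqd⟩, fun hw => hq ⟨_, hw, rfl⟩, rfl⟩
  have hres := hcompl _ (through _ (hcompl h hh) (by rw [hFp]; simpa using hph))
  have e : σ • hᶜ = (σ • h)ᶜ := by
    rw [Finset.compl_eq_univ_sdiff, Finset.compl_eq_univ_sdiff, Finset.smul_finset_sdiff,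
      Finset.smul_finset_univ]
  rwa [e, compl_compl] at hres

end Cfsg.Agent.TwoGroups.OutMathieu
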