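import Mathlib
import Cfsg.Agent.TwoGroups.OutMathieu.Index

/-!
# Subgroups of index 24 of `M24`
-/

set_option autoImplicit false
set_option maxRecDepth 20000
set_option linter.style.haveILetI false

open Cfsg Cfsg.Agent.Golay
open scoped Pointwise

namespace Cfsg.Agent.TwoGroups.OutMathieu

/-- Multiplication by two. -/
noncomputable def x11 : Equiv.Perm GolayPt := permOf mul2Code

theorem x11_apply (y : GolayPt) : x11 y = permFun mul2Code y :=
  permOf_apply (permOK_of_isAut mul2_aut.1) y

theorem x11_facts : (∀ y : GolayPt, (permFun mul2Code)^[11] y = y) ∧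
    permFun mul2Code (some 1) ≠ some 1 ∧ permFun mul2Code none = none ∧
    (∀ y : GolayPt, permFun mul2Code y = y → y = none ∨ y = some 0) ∧
    (∀ y ∈ bset sqMask, y = some 0 ∨ ∃ k < 11, (permFun mul2Code)^[k] (some 1) = y) := by
  decide +kernel

theorem x11_mem : x11 ∈ fixList [none] :=
  mem_fixList.2 ⟨permOf_mem_M24 mul2_aut.1, fun p hp => by
    rw [List.mem_singleton] at hp
    rw [hp, x11_apply]
    exact x11_facts.2.2.1⟩

theorem x11_order : orderOf (⟨x11, x11_mem⟩ : fixList [none]) = 11 := by
  haveI := Fact.mk (by norm_num : Nat.Prime 11)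
  refine orderOf_eq_prime (Subtype.ext (Equiv.ext fun y => ?_)) fun e => ?_
  · rw [SubmonoidClass.coe_pow, Equiv.Perm.coe_pow,
      show (⇑x11 : GolayPt → GolayPt) = permFun mul2Code from funext x11_apply]
    exact x11_facts.1 y
  · refine x11_facts.2.1 ?_
    rw [← x11_apply]
    exact congrArg (fun g : fixList [none] => (g : Equiv.Perm GolayPt) (some 1)) e

/-- An element of `M23` commuting with multiplication by two is known by its value at one. -/
theorem commuting_inj {c c' : Equiv.Perm GolayPt} (hc : c ∈ fixList [none])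
    (hc' : c' ∈ fixList [none]) (h : Commute c x11) (h' : Commute c' x11)
    (he : c (some 1) = c' (some 1)) : c = c' := by
  set u := c'⁻¹ * c with hu
  have hucomm : Commute u x11 := h'.inv_left.mul_left h
  have h1 : u (some 1) = some 1 := by
    show c'⁻¹ (c (some 1)) = some 1
    rw [he]
    exact Equiv.symm_apply_apply _ _
  have hn : u none = none := (mem_fixList.1 (mul_mem (inv_mem hc') hc)).2 none (by simp)
  have h0x : x11 (some 0) = some 0 := by
    rw [x11_apply]; decide +kernel
  have h0 : u (some 0) = some 0 := by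
    have e : permFun mul2Code (u (some 0)) = u (some 0) := by
      rw [← x11_apply]
      show (x11 * u) (some 0) = u (some 0)
      rw [← hucomm.eq, Equiv.Perm.mul_apply, h0x]
    refine (x11_facts.2.2.2.1 _ e).resolve_left fun e' => ?_
    exact absurd (u.injective (e'.trans hn.symm)) (by simp)
  have hiter : ∀ k : ℕ, u ((permFun mul2Code)^[k] (some 1)) = (permFun mul2Code)^[k] (some 1) := by
    intro k
    induction k with
    | zero => exact h1
    | succ k ih =>
      rw [Function.iterate_succ_apply', ← x11_apply]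
      show (u * x11) _ = x11 _
      rw [hucomm.eq, Equiv.Perm.mul_apply, ih]
  have hall : ∀ y ∈ bset sqMask, u y = y := by
    intro y hy
    rcases x11_facts.2.2.2.2 y hy with rfl | ⟨k, -, rfl⟩
    · exact h0
    · exact hiter k
  have hd : bset sqMask ∈ dodecads := squareDodecad_eq ▸ squareDodecad_mem
  obtain ⟨x, hx⟩ := exists_five_subset hd none
  have hone := eq_one_of_fix_five hd ((mem_fixList.1 (mul_mem (inv_mem hc') hc)).1)
    (smul_finset_fixed' hall) x (fun i => (hx i).1) fun i => hall _ (hx i).1
  rw [inv_mul_eq_one] at hone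
  exact hone.symm
where
  smul_finset_fixed' {X : Finset GolayPt} {g : Equiv.Perm GolayPt} (h : ∀ x ∈ X, g x = x) :
      g • X = X := by
    refine Finset.eq_of_subset_of_card_le (fun y hy => ?_) (by rw [Finset.card_smul_finset])
    obtain ⟨x, hx, rfl⟩ := Finset.mem_smul_finset.1 hy
    rwa [Equiv.Perm.smul_def, h x hx]

theorem centralizer_bound (P : Sylow 11 (fixList [none])) :
    Nat.card (Subgroup.centralizer ((P : Subgroup (fixList [none])) : Set (fixList [none]))) ≤ 24 := by
  haveI := Fact.mk (by norm_num : Nat.Prime 11)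
  have hc : Nat.card (fixList [none]) = 11 * 927360 := card_fixList_one none
  let Q : Sylow 11 (fixList [none]) := Sylow.ofCard (Subgroup.zpowers ⟨x11, x11_mem⟩) (by
    rw [Nat.card_zpowers, x11_order, hc, Nat.factorization_mul (by norm_num) (by norm_num)]
    simp [Nat.factorization_eq_zero_of_not_dvd (show ¬ 11 ∣ 927360 by norm_num),
      (show Nat.Prime 11 by norm_num).factorization_self])
  obtain ⟨g, hg⟩ := MulAction.exists_smul_eq (fixList [none]) Q P
  have hmem : g * ⟨x11, x11_mem⟩ * g⁻¹ ∈ (P : Subgroup (fixList [none])) := by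
    rw [← hg]
    exact Subgroup.mem_map.2 ⟨⟨x11, x11_mem⟩, Subgroup.mem_zpowers _, rfl⟩
  let f : Subgroup.centralizer ((P : Subgroup (fixList [none])) : Set (fixList [none])) → GolayPt :=
    fun c => ((g⁻¹ * c.1 * g : fixList [none]) : Equiv.Perm GolayPt) (some 1)
  have hcomm : ∀ c : Subgroup.centralizer ((P : Subgroup (fixList [none])) : Set (fixList [none])),
      Commute (g⁻¹ * c.1 * g : fixList [none]) (⟨x11, x11_mem⟩ : fixList [none]) := by
    intro c
    have e := Subgroup.mem_centralizer_iff.1 c.2 _ hmem
    show g⁻¹ * c.1 * g * _ = _ * (g⁻¹ * c.1 * g)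
    calc g⁻¹ * c.1 * g * (⟨x11, x11_mem⟩ : fixList [none])
        = g⁻¹ * (c.1 * (g * ⟨x11, x11_mem⟩ * g⁻¹)) * g := by group
      _ = g⁻¹ * (g * ⟨x11, x11_mem⟩ * g⁻¹ * c.1) * g := by rw [e]
      _ = (⟨x11, x11_mem⟩ : fixList [none]) * (g⁻¹ * c.1 * g) := by group
  have hinj : Function.Injective f := by
    intro c c' e
    have h := commuting_inj (g⁻¹ * c.1 * g : fixList [none]).2 (g⁻¹ * c'.1 * g : fixList [none]).2
      ((hcomm c).map (fixList [none]).subtype) ((hcomm c').map (fixList [none]).subtype) e
    have h' : g⁻¹ * c.1 * g = g⁻¹ * c'.1 * g := Subtype.ext h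
    exact Subtype.ext (mul_left_cancel (mul_right_cancel h'))
  exact (Nat.card_le_card_of_injective f hinj).trans
    (by rw [Nat.card_eq_fintype_card, card_golayPt])

theorem arith11 : ∀ d ∈ (11 : ℕ) :: [22], ∀ r ∈ (10 : ℕ).divisors,
    d * r ∣ 425040 → 425040 / (d * r) % 11 ≠ 1 := by decide +kernel

/-- `M23` has no subgroup of index 24. -/
theorem no_index_24 (Y : Subgroup (fixList [none])) : Nat.card Y ≠ 425040 := by
  intro hY
  haveI := Fact.mk (by norm_num : Nat.Prime 11)
  let P : Sylow 11 Y := default
  obtain ⟨hP, -, -, hmod⟩ := SmallOrder.sylow_arith P (a := 1) (m := 38640) (by rw [hY]; norm_num)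
    (by norm_num)
  rw [pow_one] at hP
  have hfac : (Nat.card (fixList [none])).factorization 11 = 1 := by
    rw [card_fixList_one, show (10200960 : ℕ) = 11 * 927360 from rfl,
      Nat.factorization_mul (by norm_num) (by norm_num)]
    simp [Nat.factorization_eq_zero_of_not_dvd (show ¬ 11 ∣ 927360 by norm_num),
      (show Nat.Prime 11 by norm_num).factorization_self]
  let P' : Sylow 11 (fixList [none]) := Sylow.ofCard ((P : Subgroup Y).map Y.subtype) (by
    rw [Subgroup.card_map_of_injective Y.subtype_injective, hP, hfac, pow_one])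
  have hC : Nat.card (Subgroup.centralizer ((P : Subgroup Y) : Set Y)) ≤ 24 := by
    refine le_trans ?_ (centralizer_bound P')
    refine Nat.card_le_card_of_injective
      (fun c => ⟨(c.1 : fixList [none]), Subgroup.mem_centralizer_iff.2 ?_⟩)
      (fun a b e => Subtype.ext (Subtype.ext (congrArg Subtype.val e :)))
    rintro _ ⟨y, hy, rfl⟩
    exact congrArg Subtype.val (Subgroup.mem_centralizer_iff.1 c.2 y hy)
  set C := Subgroup.centralizer ((P : Subgroup Y) : Set Y)
  set N := Subgroup.normalizer ((P : Subgroup Y) : Set Y)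
  have hPC : (P : Subgroup Y) ≤ C := by
    haveI : IsCyclic (P : Subgroup Y) := isCyclic_of_prime_card hP
    intro a ha
    rw [Subgroup.mem_centralizer_iff]
    intro b hb
    exact congrArg Subtype.val (mul_comm' (⟨b, hb⟩ : (P : Subgroup Y)) ⟨a, ha⟩)
  obtain ⟨m, hm⟩ : 11 ∣ Nat.card C := hP ▸ Subgroup.card_dvd_of_le hPC
  have hd : Nat.card C ∈ (11 : ℕ) :: [22] := by
    have := Nat.card_pos (α := C)
    simp only [List.mem_cons, List.not_mem_nil, or_false]
    omega
  have hrel := SmallOrder.relIndex_centralizer_dvd_sub_one (P : Subgroup Y) hP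
  have hNc : Nat.card N = Nat.card C * C.relIndex N := by
    rw [← Subgroup.relIndex_bot_left, ← Subgroup.relIndex_bot_left,
      Subgroup.relIndex_mul_relIndex ⊥ C N bot_le
        (Subgroup.centralizer_le_normalizer ((P : Subgroup Y) : Set Y))]
  have hNY : Nat.card N * Nat.card (Sylow 11 Y) = 425040 := by
    rw [Sylow.card_eq_index_normalizer P, ← hY]
    exact Subgroup.card_mul_index _
  rw [hNc] at hNY
  refine arith11 _ hd _ (Nat.mem_divisors.2 ⟨hrel, by norm_num⟩) (Dvd.intro _ hNY) ?_
  rw [← hNY, Nat.mul_div_cancel_left _ (Nat.mul_pos Nat.card_pos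
    (Nat.pos_of_ne_zero fun e => by rw [e, mul_zero, zero_mul] at hNY; norm_num at hNY))]
  exact hmod

theorem card_fixList_nil : Nat.card (fixList []) = 244823040 := by
  rw [← M24_card]
  refine Nat.card_congr (Equiv.setCongr (Set.ext fun g => ?_))
  show g ∈ fixList [] ↔ g ∈ M24
  rw [mem_fixList]
  simp

theorem rigid_nil : Rigid (fixList []) ↑(([] : List GolayPt).toFinsetᶜ) 24 where
  out g hg p hp := (mem_fixList.1 hg).2 p (by simp at hp)
  idx p hp := pstab_index [] (by simp) (by simp) hp
  inj p hp q hq h := pstab_inj [] (by simp) (by simp) hp hq h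
  cls X hX := by
    have hS : (([] : List GolayPt).toFinsetᶜ).card = 24 := card_compl_nodup [] (by simp)
    obtain ⟨p, hp, hle⟩ := exists_fixed (fixList []) (([] : List GolayPt).toFinsetᶜ) 3
      (fun g hg => fixList_stable _ hg) (fixList_subsets _ (by simp) (by simp)) X
      (by rw [hS, hX]; exact arith24) (fun htr => by
        have h2 := X.index_mul_card
        rw [hX, card_fixList_nil] at h2
        have hXc : Nat.card X = 10200960 := by omega
        let Y : Subgroup (fixList [none]) :=
          { carrier := {g | (⟨g.1, mem_fixList.2 ⟨(mem_fixList.1 g.2).1, by simp⟩⟩ : fixList []) ∈ X}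
            one_mem' := X.one_mem
            mul_mem' := fun ha hb => X.mul_mem ha hb
            inv_mem' := fun ha => X.inv_mem ha }
        refine no_index_24 Y ?_
        have horb : MulAction.orbit X (none : GolayPt) = Set.univ := by
          refine Set.eq_univ_iff_forall.2 fun b => ?_
          obtain ⟨g, hg, e⟩ := htr none (by simp) b (by simp)
          exact ⟨⟨g, hg⟩, e⟩
        have hst : Nat.card (MulAction.stabilizer X (none : GolayPt)) * 24 = 10200960 := by
          have h := (MulAction.stabilizer X (none : GolayPt)).card_mul_index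
          rw [MulAction.index_stabilizer, horb, Set.ncard_univ,
            show Nat.card GolayPt = 24 by rw [Nat.card_eq_fintype_card, card_golayPt], hXc] at h
          exact h
        have he : Nat.card Y = Nat.card (MulAction.stabilizer X (none : GolayPt)) :=
          Nat.card_congr
            { toFun := fun g => ⟨⟨_, g.2⟩, (mem_fixList.1 g.1.2).2 none (by simp)⟩
              invFun := fun g => ⟨⟨g.1.1.1, mem_fixList.2 ⟨(mem_fixList.1 g.1.1.2).1, fun p hp => by
                rw [List.mem_singleton] at hp
                subst hp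
                exact g.2⟩⟩, g.1.2⟩
              left_inv := fun _ => rfl
              right_inv := fun _ => rfl }
        omega)
    exact ⟨p, hp, eq_pstab [] (by simp) (by simp) hp hX hle⟩

end Cfsg.Agent.TwoGroups.OutMathieu
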