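import Mathlib
import Cfsg.Agent.TwoGroups.OutMathieu.IndexM24
import Cfsg.Agent.TwoGroups.OutMathieu.M12Data

/-!
# Subgroups of index 12 of `M12`
-/

set_option autoImplicit false
set_option maxRecDepth 20000
set_option linter.style.haveILetI false

open Cfsg Cfsg.Agent.Golay
open scoped Pointwise

namespace Cfsg.Agent.TwoGroups.OutMathieu

/-- The dodecad of squares. -/
def d₀ : Finset GolayPt := bset sqMask

theorem d₀_mem : d₀ ∈ dodecads := sqMask_dodecad

theorem d₀_compl_mem : d₀ᶜ ∈ dodecads :=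
  ⟨compl_mem_supports d₀_mem.1, by rw [Finset.card_compl, card_golayPt, card_dodecad d₀_mem]⟩

/-- `M12`. -/
def G12 : Subgroup (Equiv.Perm GolayPt) := M24 ⊓ MulAction.stabilizer (Equiv.Perm GolayPt) d₀

theorem mem_G12 {g : Equiv.Perm GolayPt} : g ∈ G12 ↔ g ∈ M24 ∧ g • d₀ = d₀ := Iff.rfl

theorem G12_compl {g : Equiv.Perm GolayPt} (hg : g ∈ G12) : g • d₀ᶜ = d₀ᶜ := by
  rw [Finset.compl_eq_univ_sdiff, Finset.smul_finset_sdiff, Finset.smul_finset_univ,
    (mem_G12.1 hg).2]

theorem of_compl {g : Equiv.Perm GolayPt} (h : g • d₀ᶜ = d₀ᶜ) : g • d₀ = d₀ := by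
  conv_lhs => rw [← compl_compl d₀, Finset.compl_eq_univ_sdiff, Finset.smul_finset_sdiff,
    Finset.smul_finset_univ, h]
  simp

/-- The two dodecads. -/
theorem side (p : GolayPt) : ∃ e ∈ dodecads, p ∈ e ∧ (e = d₀ ∨ e = d₀ᶜ) := by
  by_cases h : p ∈ d₀
  · exact ⟨d₀, d₀_mem, h, Or.inl rfl⟩
  · exact ⟨d₀ᶜ, d₀_compl_mem, Finset.mem_compl.2 h, Or.inr rfl⟩

theorem side_mem {e : Finset GolayPt} (he : e = d₀ ∨ e = d₀ᶜ) {g : Equiv.Perm GolayPt} :
    g ∈ G12 ↔ g ∈ M24 ∧ g • e = e := by
  rcases he with rfl | rfl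
  · exact mem_G12
  · exact ⟨fun h => ⟨h.1, G12_compl h⟩, fun h => ⟨h.1, of_compl h.2⟩⟩

theorem G12_move (e : Finset GolayPt) (he : e = d₀ ∨ e = d₀ᶜ) (s s' : List GolayPt)
    (hs : s.Nodup) (hs' : s'.Nodup) (hlen : s.length = s'.length) (h5 : s.length ≤ 5)
    (hse : ∀ p ∈ s, p ∈ e) (hse' : ∀ p ∈ s', p ∈ e) : ∃ g ∈ G12, s.map g = s' := by
  have hem : e ∈ dodecads := by rcases he with rfl | rfl; exacts [d₀_mem, d₀_compl_mem]
  obtain ⟨g, hg, hge, hgi⟩ := exists_mem_dodecad_stab hem h5 (embOfList s hs)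
    ((finCongr hlen).toEmbedding.trans (embOfList s' hs'))
    (fun i => hse _ (List.get_mem s i)) (fun i => hse' _ (List.get_mem s' _))
  refine ⟨g, (side_mem he).2 ⟨hg, hge⟩, List.ext_getElem (by simpa using hlen) fun i h1 h2 => ?_⟩
  rw [List.length_map] at h1
  simpa [embOfList] using hgi ⟨i, h1⟩

theorem G12_subsets (e : Finset GolayPt) (he : e = d₀ ∨ e = d₀ᶜ) {t : ℕ} (ht : t ≤ 5)
    (T T' : Finset GolayPt) (hT : T ⊆ e) (hT' : T' ⊆ e) (hc : T.card = t) (hc' : T'.card = t) :
    ∃ g ∈ G12, g • T = T' := by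
  obtain ⟨g, hg, hm⟩ := G12_move e he T.toList T'.toList T.nodup_toList T'.nodup_toList
    (by simp [hc, hc']) (by simp [hc, ht]) (fun p hp => hT (Finset.mem_toList.1 hp))
    (fun p hp => hT' (Finset.mem_toList.1 hp))
  refine ⟨g, hg, ?_⟩
  ext x
  rw [Finset.mem_smul_finset, ← Finset.mem_toList (s := T'), ← hm, List.mem_map]
  simp [Finset.mem_toList]

theorem card_G12 : Nat.card G12 = 95040 := M24_dodecad_stab_card d₀_mem

theorem G12_index (p : GolayPt) : (pstab G12 p).index = 12 := by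
  obtain ⟨e, hem, hp, he⟩ := side p
  have hst : pstab G12 p = MulAction.stabilizer G12 p := rfl
  rw [hst, MulAction.index_stabilizer, ← card_dodecad hem, ← Set.ncard_coe_finset]
  congr 1
  ext q
  rw [Finset.mem_coe]
  constructor
  · rintro ⟨g, rfl⟩
    show (g : Equiv.Perm GolayPt) p ∈ e
    rw [← ((side_mem he).1 g.2).2]
    exact Finset.smul_mem_smul_finset hp
  · intro hq
    obtain ⟨g, hg, hm⟩ := G12_move e he [p] [q] (by simp) (by simp) rfl (by simp)
      (by simp [hp]) (by simp [hq])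
    exact ⟨⟨g, hg⟩, by simpa using hm⟩

theorem small_facts : pt 0 ∈ d₀ ∧ pt 1 ∈ d₀ ∧ pt 2 ∈ d₀ ∧ pt 23 ∉ d₀ ∧
    isAut f5Code = true ∧ mapMask f5Code sqMask = sqMask ∧
    isAut t5Code = true ∧ mapMask t5Code sqMask = sqMask ∧
    isAut c12Code = true ∧ mapMask c12Code sqMask = sqMask ∧
    mapMask mul2Code sqMask = sqMask ∧ app c12Code 0 = 0 ∧ app c12Code 23 ≠ 23 ∧
    app mul2Code 0 = 0 ∧ app mul2Code 23 = 23 ∧ app f5Code 0 = 0 ∧ app f5Code 1 = 1 ∧
    app f5Code 23 = 23 := by
  decide +kernel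

theorem permOf_mem_G12 {c : ℕ} (h : isAut c = true) (hd : mapMask c sqMask = sqMask) :
    permOf c ∈ G12 :=
  mem_G12.2 ⟨permOf_mem_M24 h, by rw [d₀, ← bset_mapMask (permOK_of_isAut h), hd]⟩

theorem x11_mem12 : x11 ∈ G12 := permOf_mem_G12 mul2_aut.1 small_facts.2.2.2.2.2.2.2.2.2.2.1

/-- The two sides have different stabilisers. -/
theorem pstab_cross {p q : GolayPt} (hp : p ∈ d₀) (hq : q ∉ d₀) : pstab G12 p ≠ pstab G12 q := by
  intro h
  obtain ⟨ha, -, -, hb, -, -, -, -, hc1, hc2, -, hc3, hc4, hx0, -⟩ := small_facts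
  obtain ⟨k, hk, hm⟩ := G12_move d₀ (Or.inl rfl) [pt 0] [p] (by simp) (by simp) rfl (by simp)
    (by simp [ha]) (by simp [hp])
  simp only [List.map_cons, List.map_nil, List.cons.injEq, and_true] at hm
  -- every element of `G12` fixing zero fixes `k⁻¹ q`
  have key : ∀ g : Equiv.Perm GolayPt, g ∈ G12 → g (pt 0) = pt 0 → g (k⁻¹ q) = k⁻¹ q := by
    intro g hg hg0
    have h1 : (⟨k * g * k⁻¹, mul_mem (mul_mem hk hg) (inv_mem hk)⟩ : G12) ∈ pstab G12 p := by
      show k (g (k⁻¹ p)) = p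
      rw [← hm, show k⁻¹ (k (pt 0)) = pt 0 from k.symm_apply_apply _, hg0]
    rw [h] at h1
    have h2 : k (g (k⁻¹ q)) = q := h1
    have h3 := congrArg (fun r => k⁻¹ r) h2
    simp only [show k⁻¹ (k (g (k⁻¹ q))) = g (k⁻¹ q) from k.symm_apply_apply _] at h3
    exact h3
  have hkq : k⁻¹ q ∉ d₀ := by
    intro hh
    refine hq ?_
    rw [← (mem_G12.1 hk).2]
    exact Finset.mem_smul_finset.2 ⟨_, hh, k.apply_symm_apply q⟩
  have hok := permOK_of_isAut mul2_aut.1
  have h1 := key x11 x11_mem12 (by rw [x11, permOf_pt hok (by norm_num), hx0])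
  rw [x11_apply] at h1
  rcases x11_facts.2.2.2.1 _ h1 with e | e
  · have hok' := permOK_of_isAut hc1
    have h2 := key _ (permOf_mem_G12 hc1 hc2) (by rw [permOf_pt hok' (by norm_num), hc3])
    rw [e] at h2
    have h3 := congrArg idx h2
    rw [idx_permOf hok'] at h3
    exact hc4 h3
  · exact hkq (by rw [e]; exact ha)

theorem G12_inj {p q : GolayPt} (h : pstab G12 p = pstab G12 q) : p = q := by
  by_contra hpq
  by_cases hp : p ∈ d₀ <;> by_cases hq : q ∈ d₀
  rotate_left
  · exact pstab_cross hp hq h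
  · exact pstab_cross hq hp h.symm
  all_goals
    obtain ⟨e, hem, hpe, he⟩ := side p
    have hqe : q ∈ e := by
      rcases he with rfl | rfl
      · first | exact hq | exact absurd hpe hp
      · first | exact absurd hp (Finset.mem_compl.1 hpe) | exact Finset.mem_compl.2 hq
    obtain ⟨r, hr⟩ : (e \ {p, q}).Nonempty := by
      rw [← Finset.card_pos]
      have h1 := Finset.le_card_sdiff ({p, q} : Finset GolayPt) e
      have h2 : ({p, q} : Finset GolayPt).card ≤ 2 := Finset.card_le_two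
      rw [card_dodecad hem] at h1
      omega
    simp only [Finset.mem_sdiff, Finset.mem_insert, Finset.mem_singleton, not_or] at hr
    obtain ⟨g, hg, hm⟩ := G12_move e he [p, q] [p, r] (by simp [hpq]) (by simp [Ne.symm hr.2.1]) rfl
      (by simp) (by simp [hpe, hqe]) (by simp [hpe, hr.1])
    simp only [List.map_cons, List.map_nil, List.cons.injEq, and_true] at hm
    have h1 : (⟨g, hg⟩ : G12) ∈ pstab G12 q := h ▸ mem_pstab.2 hm.1
    exact hr.2.2 (hm.2.symm.trans h1)

theorem centralizer11 {Y : Subgroup G12} (x : Y) (hx : ((x : G12) : Equiv.Perm GolayPt) = x11) :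
    Nat.card (Subgroup.centralizer ((Subgroup.zpowers x : Subgroup Y) : Set Y)) ≤ 24 := by
  let f : Subgroup.centralizer ((Subgroup.zpowers x : Subgroup Y) : Set Y) → GolayPt :=
    fun c => ((c.1 : G12) : Equiv.Perm GolayPt) (some 1)
  have hcomm : ∀ c : Subgroup.centralizer ((Subgroup.zpowers x : Subgroup Y) : Set Y),
      Commute ((c.1 : G12) : Equiv.Perm GolayPt) x11 := by
    intro c
    have e := Subgroup.mem_centralizer_iff.1 c.2 x (Subgroup.mem_zpowers x)
    rw [← hx]
    exact (congrArg (fun y : Y => ((y : G12) : Equiv.Perm GolayPt)) e).symm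
  have hfix : ∀ c : Subgroup.centralizer ((Subgroup.zpowers x : Subgroup Y) : Set Y),
      ((c.1 : G12) : Equiv.Perm GolayPt) ∈ fixList [none] := by
    intro c
    refine mem_fixList.2 ⟨(mem_G12.1 (c.1 : G12).2).1, fun p hp => ?_⟩
    rw [List.mem_singleton] at hp
    subst hp
    have e : permFun mul2Code (((c.1 : G12) : Equiv.Perm GolayPt) none) =
        ((c.1 : G12) : Equiv.Perm GolayPt) none := by
      rw [← x11_apply]
      show (x11 * ((c.1 : G12) : Equiv.Perm GolayPt)) none = _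
      rw [← (hcomm c).eq, Equiv.Perm.mul_apply, x11_apply, x11_facts.2.2.1]
    refine (x11_facts.2.2.2.1 _ e).resolve_right fun e' => ?_
    have h1 : (some 0 : GolayPt) ∈ d₀ := small_facts.1
    rw [← (mem_G12.1 (c.1 : G12).2).2, ← e', ← Equiv.Perm.smul_def,
      Finset.smul_mem_smul_finset_iff] at h1
    exact small_facts.2.2.2.1 h1
  have hinj : Function.Injective f := fun c c' e =>
    Subtype.ext (Subtype.ext (Subtype.ext (commuting_inj (hfix c) (hfix c') (hcomm c) (hcomm c') e)))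
  exact (Nat.card_le_card_of_injective f hinj).trans
    (by rw [Nat.card_eq_fintype_card, card_golayPt])

/-- In a group of order `11 m` as here the normaliser of the subgroup has order 55. -/
theorem normalizer_55 {H : Type*} [Group H] [Finite H] {x : H} (hx : orderOf x = 11) {m : ℕ}
    (hm : m = 720 ∨ m = 8640) (hH : Nat.card H = 11 * m)
    (hC : Nat.card (Subgroup.centralizer ((Subgroup.zpowers x : Subgroup H) : Set H)) ≤ 24) :
    Nat.card (Subgroup.normalizer ((Subgroup.zpowers x : Subgroup H) : Set H)) = 55 := by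
  haveI := Fact.mk (by norm_num : Nat.Prime 11)
  have hm11 : ¬ 11 ∣ m := by omega
  have hP : Nat.card (Subgroup.zpowers x) = 11 := by rw [Nat.card_zpowers, hx]
  let P : Sylow 11 H := Sylow.ofCard (Subgroup.zpowers x) (by
    rw [hP, hH, Nat.factorization_mul (by norm_num) (by omega), Finsupp.add_apply,
      Nat.factorization_eq_zero_of_not_dvd hm11, (show Nat.Prime 11 by norm_num).factorization_self]
    rfl)
  obtain ⟨-, -, -, hmod⟩ := SmallOrder.sylow_arith P (a := 1) (m := m) (by rw [pow_one, hH]) hm11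
  set C := Subgroup.centralizer ((Subgroup.zpowers x : Subgroup H) : Set H)
  set N := Subgroup.normalizer ((Subgroup.zpowers x : Subgroup H) : Set H)
  have hPC : Subgroup.zpowers x ≤ C := by
    intro a ha
    rw [Subgroup.mem_centralizer_iff]
    intro b hb
    obtain ⟨i, rfl⟩ := Subgroup.mem_zpowers_iff.1 ha
    obtain ⟨j, rfl⟩ := Subgroup.mem_zpowers_iff.1 hb
    rw [← zpow_add, ← zpow_add, add_comm]
  obtain ⟨c, hc⟩ : 11 ∣ Nat.card C := hP ▸ Subgroup.card_dvd_of_le hPC
  have hrel := SmallOrder.relIndex_centralizer_dvd_sub_one (Subgroup.zpowers x) hP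
  have hNc : Nat.card N = Nat.card C * C.relIndex N := by
    rw [← Subgroup.relIndex_bot_left, ← Subgroup.relIndex_bot_left,
      Subgroup.relIndex_mul_relIndex ⊥ C N bot_le
        (Subgroup.centralizer_le_normalizer ((Subgroup.zpowers x : Subgroup H) : Set H))]
  have hNH : Nat.card N * Nat.card (Sylow 11 H) = 11 * m := by
    rw [Sylow.card_eq_index_normalizer P, ← hH]
    exact Subgroup.card_mul_index _
  have key : ∀ m ∈ [720, 8640], ∀ d ∈ (11 : ℕ) :: [22], ∀ r ∈ (10 : ℕ).divisors,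
      d * r ∣ 11 * m → 11 * m / (d * r) % 11 = 1 → d * r = 55 := by decide +kernel
  have hpos : 0 < Nat.card N := Nat.card_pos
  rw [hNc] at hNH hpos ⊢
  refine key m (by simpa using hm) _ ?_ _ (Nat.mem_divisors.2 ⟨hrel, by norm_num⟩) (Dvd.intro _ hNH) ?_
  · have := Nat.card_pos (α := C)
    simp only [List.mem_cons, List.not_mem_nil, or_false]
    omega
  · rw [← hNH, Nat.mul_div_cancel_left _ hpos]
    exact hmod

/-! ### The certificates -/

/-- The generators used by the words. -/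
def letter (g : ℕ) : ℕ → ℕ
  | 0 => mul2Code
  | 1 => f5Code
  | 2 => t5Code
  | _ => g

/-- The action of a word. -/
def wordApp (g : ℕ) (l : List ℕ) (i : ℕ) : ℕ := l.foldr (fun k i => app (letter g k) i) i

/-- `c` moves `i` as `f ^ j` moves the image. -/
def normalisesB (j c : ℕ) : Bool :=
  (List.range 24).all fun i => app c (app f5Code i) == (app f5Code)^[j] (app c i)

/-- Common part of the checks. -/
def baseB (a a' j u c : ℕ) : Bool :=
  isAut c && mapMask c sqMask == sqMask && app c 0 == a && app c 1 == a' && app c 2 == u &&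
    app c (app f5Code 2) == (app f5Code)^[j] u &&
    app c (app f5Code (app f5Code 2)) == (app f5Code)^[j] ((app f5Code)^[j] u)

/-- The check of a candidate exchanging the two fixed points. -/
def swapB : ℕ × ℕ × ℕ × List ℕ → Bool
  | (j, u, c, l) => baseB 1 0 j u c && (!normalisesB j c ||
      (((wordApp c l 0 == 0) || (wordApp c l 23 == 23)) &&
        ((List.range 24).all fun i => (wordApp c l)^[8] i == i) &&
        !((List.range 24).all fun i => (wordApp c l)^[4] i == i)))

/-- The check of a candidate fixing both points. -/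
def fixB : ℕ × ℕ × ℕ → Bool
  | (j, u, c) => baseB 0 1 j u c && (!normalisesB j c ||
      !((List.range 24).all fun i => app c (app c i) == i) ||
      ((List.range 24).all fun i => app c i == i) ||
      (List.range 5).any fun k =>
        (List.range 24).all fun i => (app f5Code)^[k] (app c i) == app t5Code ((app f5Code)^[k] i))

theorem cands_swap : m12Cands.all swapB = true := by
  decide +kernel

theorem cands_fix : m12Fix.all fixB = true := by
  decide +kernel

theorem cands_coverB : ((List.range 5).all fun j => (List.range 24).all fun u =>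
    j == 0 || !sqMask.testBit u || u == 0 || u == 1 ||
      ((m12Cands.any fun e => e.1 == j && e.2.1 == u) &&
        (m12Fix.any fun e => e.1 == j && e.2.1 == u))) = true := by
  decide +kernel

theorem cands_cover {j : ℕ} (hj : j < 5) (hj0 : j ≠ 0) {u : ℕ} (hu : u < 24)
    (hb : sqMask.testBit u = true) (h0 : u ≠ 0) (h1 : u ≠ 1) :
    (∃ e ∈ m12Cands, e.1 = j ∧ e.2.1 = u) ∧ (∃ e ∈ m12Fix, e.1 = j ∧ e.2.1 = u) := by
  have h := List.all_eq_true.1 (List.all_eq_true.1 cands_coverB j (List.mem_range.2 hj)) u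
    (List.mem_range.2 hu)
  simpa [hj0, hb, h0, h1] using h

theorem f5_facts :
    (∀ i < 24, app f5Code (app mul2Code i) = (app mul2Code)^[9] (app f5Code i)) ∧
    (∀ i < 24, sqMask.testBit i = true → app f5Code i = i → i = 0 ∨ i = 1) := by
  decide +kernel

theorem f5_points :
    app f5Code 2 ≠ 2 ∧ app f5Code (app f5Code 2) ≠ 2 ∧
    app f5Code 2 ≠ app f5Code (app f5Code 2) ∧ app f5Code 2 ≠ 0 ∧ app f5Code 2 ≠ 1 ∧
    app f5Code (app f5Code 2) ≠ 0 ∧ app f5Code (app f5Code 2) ≠ 1 ∧
    sqMask.testBit (app f5Code 2) = true ∧ sqMask.testBit (app f5Code (app f5Code 2)) = true := by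
  decide +kernel

/-- An element of order five of `M12`. -/
noncomputable def f5 : Equiv.Perm GolayPt := permOf f5Code

theorem f5_ok : permOK f5Code = true := permOK_of_isAut small_facts.2.2.2.2.1

theorem f5_pt {i : ℕ} (hi : i < 24) : f5 (pt i) = pt (app f5Code i) := permOf_pt f5_ok hi

theorem idx_f5_pow (j : ℕ) (p : GolayPt) : idx ((f5 ^ j) p) = (app f5Code)^[j] (idx p) := by
  induction j generalizing p with
  | zero => rfl
  | succ j ih =>
    rw [pow_succ, Equiv.Perm.mul_apply, ih, f5, idx_permOf f5_ok, Function.iterate_succ_apply]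

theorem f5_mem : f5 ∈ G12 := permOf_mem_G12 small_facts.2.2.2.2.1 small_facts.2.2.2.2.2.1

theorem pow_eq_one_of_app {w : Equiv.Perm GolayPt} {F : ℕ → ℕ}
    (hw : ∀ p, idx (w p) = F (idx p)) (n : ℕ) :
    (w ^ n = 1 ↔ ((List.range 24).all fun i => F^[n] i == i) = true) := by
  have hn : ∀ p, idx ((w ^ n) p) = F^[n] (idx p) := by
    intro p
    induction n generalizing p with
    | zero => rfl
    | succ n ih => rw [pow_succ, Equiv.Perm.mul_apply, ih, hw, Function.iterate_succ_apply]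
  simp only [List.all_eq_true, List.mem_range, beq_iff_eq]
  constructor
  · intro h i hi
    have := hn (pt i)
    rwa [h, Equiv.Perm.one_apply, idx_pt hi, eq_comm] at this
  · intro h
    exact Equiv.ext fun p => idx_injective (by rw [hn, h _ (idx_lt p)]; rfl)

theorem f5_order : orderOf f5 = 5 := by
  haveI := Fact.mk (by norm_num : Nat.Prime 5)
  refine orderOf_eq_prime ?_ fun e => ?_
  · refine (pow_eq_one_of_app (fun p => idx_permOf f5_ok p) 5).2 ?_
    decide +kernel
  · have := congrArg idx (congrArg (fun g : Equiv.Perm GolayPt => g (pt 2)) e)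
    rw [f5_pt (by norm_num), idx_pt (app_lt f5_ok (by norm_num)), Equiv.Perm.one_apply,
      idx_pt (by norm_num)] at this
    exact f5_points.1 this

/-- The identification of a normalising element from its values at three points. -/
theorem identify {g : Equiv.Perm GolayPt} (hg : g ∈ G12) {j : ℕ} (hj : g * f5 = f5 ^ j * g)
    {a a' : ℕ} (ha : g (pt 0) = pt a) (ha' : g (pt 1) = pt a') 
    {c : ℕ} (hc : baseB a a' j (idx (g (pt 2))) c = true) :
    g = permOf c ∧ normalisesB j c = true := by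
  simp only [baseB, Bool.and_eq_true, beq_iff_eq] at hc
  obtain ⟨⟨⟨⟨⟨⟨hc1, hc2⟩, h0⟩, h1⟩, h2⟩, h3⟩, h4⟩ := hc
  have hok := permOK_of_isAut hc1
  obtain ⟨h0d, h1d, h2d, -⟩ := small_facts
  obtain ⟨n2, n22, n3, n30, n31, n40, n41, b3, b4⟩ := f5_points
  have hstep : ∀ p, idx (g (f5 p)) = (app f5Code)^[j] (idx (g p)) := fun p => by
    rw [← Equiv.Perm.mul_apply, hj, Equiv.Perm.mul_apply, idx_f5_pow]
  have e3 : g (pt (app f5Code 2)) = pt (app c (app f5Code 2)) := by
    refine idx_injective ?_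
    rw [← f5_pt (by norm_num), hstep, idx_pt (app_lt hok (app_lt f5_ok (by norm_num))), h3]
  have e4 : g (pt (app f5Code (app f5Code 2))) = pt (app c (app f5Code (app f5Code 2))) := by
    refine idx_injective ?_
    rw [← f5_pt (app_lt f5_ok (by norm_num)), hstep, e3,
      idx_pt (app_lt hok (app_lt f5_ok (by norm_num))),
      idx_pt (app_lt hok (app_lt f5_ok (app_lt f5_ok (by norm_num)))), h4, h3]
  have hu : ((permOf c)⁻¹ * g) = 1 := by
    have hmem : (permOf c)⁻¹ * g ∈ G12 := mul_mem (inv_mem (permOf_mem_G12 hc1 hc2)) hg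
    have hfix : ∀ i < 24, g (pt i) = pt (app c i) → ((permOf c)⁻¹ * g) (pt i) = pt i := by
      intro i hi e
      rw [Equiv.Perm.mul_apply, e, ← permOf_pt hok hi]
      exact Equiv.symm_apply_apply _ _
    let l : List ℕ := [0, 1, 2, app f5Code 2, app f5Code (app f5Code 2)]
    have hl : ∀ i ∈ l, i < 24 ∧ pt i ∈ d₀ ∧ g (pt i) = pt (app c i) := by
      simp only [l, List.forall_mem_cons, List.not_mem_nil, false_imp_iff, implies_true, and_true]
      refine ⟨⟨by norm_num, h0d, by rw [ha, h0]⟩, ⟨by norm_num, h1d, by rw [ha', h1]⟩,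
        ⟨by norm_num, h2d, idx_injective (by rw [idx_pt (app_lt hok (by norm_num)), h2])⟩,
        ⟨app_lt f5_ok (by norm_num), ?_, e3⟩, ⟨app_lt f5_ok (app_lt f5_ok (by norm_num)), ?_, e4⟩⟩
      · rw [d₀, mem_bset, idx_pt (app_lt f5_ok (by norm_num))]; exact b3
      · rw [d₀, mem_bset, idx_pt (app_lt f5_ok (app_lt f5_ok (by norm_num)))]; exact b4
    have hnd : (l.map pt).Nodup := by
      refine List.Nodup.map_on (fun x hx y hy e => ?_) ?_
      · have := congrArg idx e
        rwa [idx_pt (hl x hx).1, idx_pt (hl y hy).1] at this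
      · simp [l, Ne.symm n2, Ne.symm n22, n3, Ne.symm n30, Ne.symm n31, Ne.symm n40, Ne.symm n41]
    have hlen : (l.map pt).length = 5 := rfl
    refine eq_one_of_fix_five d₀_mem (mem_G12.1 hmem).1 (mem_G12.1 hmem).2
      ((finCongr hlen.symm).toEmbedding.trans (embOfList _ hnd)) (fun i => ?_) fun i => ?_
    · obtain ⟨k, hk, e⟩ := List.mem_map.1 (List.get_mem (l.map pt) ((finCongr hlen.symm) i))
      show (l.map pt).get ((finCongr hlen.symm) i) ∈ d₀
      rw [← e]
      exact (hl k hk).2.1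
    · obtain ⟨k, hk, e⟩ := List.mem_map.1 (List.get_mem (l.map pt) ((finCongr hlen.symm) i))
      show ((permOf c)⁻¹ * g) ((l.map pt).get ((finCongr hlen.symm) i)) = (l.map pt).get ((finCongr hlen.symm) i)
      rw [← e]
      exact hfix k (hl k hk).1 (hl k hk).2.2
  rw [inv_mul_eq_one] at hu
  refine ⟨hu.symm, ?_⟩
  simp only [normalisesB, List.all_eq_true, List.mem_range, beq_iff_eq]
  intro i hi
  have := hstep (pt i)
  rw [← hu, idx_permOf hok, idx_permOf hok, f5, idx_permOf f5_ok, idx_pt hi] at this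
  exact this


/-- An element conjugating a generator into the cyclic subgroup normalises it. -/
theorem mem_norm_zpowers {H : Type*} [Group H] [Finite H] {x g : H}
    (h : g * x * g⁻¹ ∈ Subgroup.zpowers x) :
    g ∈ Subgroup.normalizer ((Subgroup.zpowers x : Subgroup H) : Set H) := by
  refine Subgroup.mem_normalizer_fintype fun n hn => ?_
  obtain ⟨i, rfl⟩ := Subgroup.mem_zpowers_iff.1 hn
  rw [← conj_zpow]
  exact zpow_mem h i

theorem idx_pow_apply {w : Equiv.Perm GolayPt} {F : ℕ → ℕ} (hw : ∀ p, idx (w p) = F (idx p))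
    (n : ℕ) (p : GolayPt) : idx ((w ^ n) p) = F^[n] (idx p) := by
  induction n generalizing p with
  | zero => rfl
  | succ n ih => rw [pow_succ, Equiv.Perm.mul_apply, ih, hw, Function.iterate_succ_apply]

theorem f5_x11 : f5 * x11 = x11 ^ 9 * f5 := by
  refine Equiv.ext fun p => idx_injective ?_
  rw [Equiv.Perm.mul_apply, Equiv.Perm.mul_apply,
    idx_pow_apply (w := x11) (fun q => idx_permOf (permOK_of_isAut mul2_aut.1) q), f5, x11,
    idx_permOf f5_ok, idx_permOf (permOK_of_isAut mul2_aut.1), idx_permOf f5_ok]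
  exact f5_facts.1 _ (idx_lt p)

theorem x11G_order : orderOf (⟨x11, x11_mem12⟩ : G12) = 11 := by
  rw [← Subgroup.orderOf_coe, ← x11_order, ← Subgroup.orderOf_coe]

/-- A subgroup of index twelve holding multiplication by two holds the element of order five. -/
theorem f5_mem_of_x11 {X : Subgroup G12} (hX : Nat.card X = 7920)
    (hx : (⟨x11, x11_mem12⟩ : G12) ∈ X) : (⟨f5, f5_mem⟩ : G12) ∈ X := by
  set xG : G12 := ⟨x11, x11_mem12⟩
  let x : X := ⟨xG, hx⟩
  have hx' : orderOf x = 11 := by rw [← Subgroup.orderOf_coe]; exact x11G_order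
  have hNX := normalizer_55 hx' (m := 720) (Or.inl rfl) (by rw [hX]) (centralizer11 x rfl)
  have hC : Nat.card (Subgroup.centralizer ((Subgroup.zpowers xG : Subgroup G12) : Set G12)) ≤ 24 := by
    refine le_trans ?_ (centralizer11 (Y := ⊤) ⟨xG, Subgroup.mem_top _⟩ rfl)
    refine Nat.card_le_card_of_injective
      (fun c => ⟨⟨c.1, Subgroup.mem_top _⟩, Subgroup.mem_centralizer_iff.2 fun h hh => ?_⟩)
      fun a b e => Subtype.ext (congrArg (fun z => (z.1 : G12)) e)
    refine Subtype.ext (Subgroup.mem_centralizer_iff.1 c.2 h ?_)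
    obtain ⟨i, rfl⟩ := Subgroup.mem_zpowers_iff.1 hh
    exact Subgroup.mem_zpowers_iff.2 ⟨i, by simp⟩
  have hNG := normalizer_55 x11G_order (m := 8640) (Or.inr rfl) (by rw [card_G12]) hC
  have hle : (Subgroup.normalizer ((Subgroup.zpowers x : Subgroup X) : Set X)).map X.subtype ≤
      Subgroup.normalizer ((Subgroup.zpowers xG : Subgroup G12) : Set G12) := by
    rintro - ⟨n, hn, rfl⟩
    obtain ⟨i, hi⟩ := Subgroup.mem_zpowers_iff.1
      ((Subgroup.mem_normalizer_iff.1 hn x).1 (Subgroup.mem_zpowers x))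
    exact mem_norm_zpowers (Subgroup.mem_zpowers_iff.2 ⟨i, congrArg Subtype.val hi⟩)
  have heq := Subgroup.eq_of_le_of_card_ge hle (by
    rw [Subgroup.card_map_of_injective X.subtype_injective]
    exact (hNG.trans hNX.symm).le)
  have hf : (⟨f5, f5_mem⟩ : G12) ∈
      Subgroup.normalizer ((Subgroup.zpowers xG : Subgroup G12) : Set G12) := by
    refine mem_norm_zpowers (Subgroup.mem_zpowers_iff.2 ⟨(9 : ℕ), Subtype.ext ?_⟩)
    rw [zpow_natCast, SubmonoidClass.coe_pow]
    show x11 ^ 9 = f5 * x11 * f5⁻¹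
    rw [f5_x11, mul_inv_cancel_right]
  rw [← heq] at hf
  obtain ⟨n, -, hn⟩ := hf
  exact hn ▸ n.2

/-- Elements normalising the subgroup of order five. -/
theorem norm_facts {g : Equiv.Perm GolayPt} (hg : g ∈ G12)
    (h : g * f5 * g⁻¹ ∈ Subgroup.zpowers f5) (hf : f5 ∈ Subgroup.zpowers (g * f5 * g⁻¹)) :
    (∃ j < 5, j ≠ 0 ∧ g * f5 = f5 ^ j * g) ∧
      (∀ i < 2, g (pt i) = pt 0 ∨ g (pt i) = pt 1) ∧
      idx (g (pt 2)) < 24 ∧ sqMask.testBit (idx (g (pt 2))) = true := by
  obtain ⟨h0d, h1d, h2d, -⟩ := small_facts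
  have hmem : ∀ q ∈ d₀, g q ∈ d₀ := fun q hq => by
    rw [← (mem_G12.1 hg).2]
    exact Finset.mem_smul_finset.2 ⟨q, hq, rfl⟩
  refine ⟨?_, fun i hi => ?_, idx_lt _, ?_⟩
  · rw [mem_zpowers_iff_mem_range_orderOf, f5_order] at h
    obtain ⟨j, hj, e⟩ := Finset.mem_image.1 h
    refine ⟨j, Finset.mem_range.1 hj, fun h0 => ?_, ?_⟩
    · subst h0
      have e' : f5 = 1 := by
        have := e
        rw [pow_zero, eq_comm, conj_eq_one_iff] at this
        exact this
      have h5 := f5_order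
      rw [e', orderOf_one] at h5
      omega
    · rw [show f5 ^ j = g * f5 * g⁻¹ from e, inv_mul_cancel_right]
  · obtain ⟨k, hk⟩ := Subgroup.mem_zpowers_iff.1 hf
    have hfi : f5 (pt i) = pt i := by
      rw [f5_pt (by omega)]
      obtain ⟨-, -, -, -, -, -, -, -, -, -, -, -, -, -, -, e0, e1, -⟩ := small_facts
      interval_cases i
      · rw [e0]
      · rw [e1]
    have hfix : f5 (g (pt i)) = g (pt i) := by
      conv_lhs => rw [← hk]
      refine Equiv.Perm.zpow_apply_eq_self_of_apply_eq_self ?_ k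
      show g (f5 (g⁻¹ (g (pt i)))) = g (pt i)
      rw [show g⁻¹ (g (pt i)) = pt i from g.symm_apply_apply _, hfi]
    have hq : g (pt i) ∈ d₀ := hmem _ (by interval_cases i; exacts [h0d, h1d])
    rw [d₀, mem_bset] at hq
    have e := congrArg idx hfix
    rw [f5, idx_permOf f5_ok] at e
    refine (f5_facts.2 _ (idx_lt _) hq e).imp (fun e' => ?_) fun e' => ?_ <;>
      exact idx_injective (by rw [e', idx_pt (by norm_num)])
  · have := hmem _ h2d
    rwa [d₀, mem_bset] at this

/-- The elements fixing zero which normalise the subgroup of order five. -/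
theorem fix_cand {g : Equiv.Perm GolayPt} (hg : g ∈ G12)
    (h : g * f5 * g⁻¹ ∈ Subgroup.zpowers f5) (hf : f5 ∈ Subgroup.zpowers (g * f5 * g⁻¹))
    (h0 : g (pt 0) = pt 0) :
    ∃ e ∈ m12Fix, g = permOf e.2.2 ∧ normalisesB e.1 e.2.2 = true ∧ fixB e = true := by
  obtain ⟨⟨j, hj5, hj0, hj⟩, hab, hu, hub⟩ := norm_facts hg h hf
  have h01 : pt 0 ≠ pt 1 := fun e => by simpa [idx_pt] using congrArg idx e
  have h1 : g (pt 1) = pt 1 := (hab 1 (by norm_num)).resolve_left fun e =>
    h01 (g.injective (h0.trans e.symm))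
  have hne : ∀ i < 2, idx (g (pt 2)) ≠ i := by
    intro i hi e
    have e' : g (pt 2) = pt i := idx_injective (by rw [e, idx_pt (by omega)])
    have e'' : pt 2 = pt i := g.injective (by rw [e']; interval_cases i <;> simp [h0, h1])
    have := congrArg idx e''
    rw [idx_pt (by norm_num), idx_pt (by omega)] at this
    omega
  obtain ⟨-, e, he, hej, heu⟩ := cands_cover hj5 hj0 hu hub (hne 0 (by norm_num)) (hne 1 (by norm_num))
  have hB := List.all_eq_true.1 cands_fix e he
  obtain ⟨j', u', c⟩ := e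
  subst hej heu
  have hb : baseB 0 1 j' (idx (g (pt 2))) c = true := (Bool.and_eq_true _ _ ▸ hB).1
  obtain ⟨e1, e2⟩ := identify hg hj h0 h1 hb
  exact ⟨_, he, e1, e2, hB⟩

/-- The elements exchanging the two fixed points which normalise the subgroup of order five. -/
theorem swap_cand {g : Equiv.Perm GolayPt} (hg : g ∈ G12)
    (h : g * f5 * g⁻¹ ∈ Subgroup.zpowers f5) (hf : f5 ∈ Subgroup.zpowers (g * f5 * g⁻¹))
    (h1 : g (pt 1) = pt 0) :
    ∃ e ∈ m12Cands, g = permOf e.2.2.1 ∧ normalisesB e.1 e.2.2.1 = true ∧ swapB e = true := by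
  obtain ⟨⟨j, hj5, hj0, hj⟩, hab, hu, hub⟩ := norm_facts hg h hf
  have h01 : pt 0 ≠ pt 1 := fun e => by simpa [idx_pt] using congrArg idx e
  have h0 : g (pt 0) = pt 1 := (hab 0 (by norm_num)).resolve_left fun e =>
    h01 (g.injective (e.trans h1.symm))
  have hne : ∀ i < 2, idx (g (pt 2)) ≠ i := by
    intro i hi e
    have e' : g (pt 2) = pt i := idx_injective (by rw [e, idx_pt (by omega)])
    have e'' : pt 2 = pt (1 - i) := g.injective (by rw [e']; interval_cases i <;> simp [h0, h1])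
    have := congrArg idx e''
    rw [idx_pt (by norm_num), idx_pt (by omega)] at this
    omega
  obtain ⟨⟨e, he, hej, heu⟩, -⟩ := cands_cover hj5 hj0 hu hub (hne 0 (by norm_num)) (hne 1 (by norm_num))
  have hB := List.all_eq_true.1 cands_swap e he
  obtain ⟨j', u', c, l⟩ := e
  subst hej heu
  have hb : baseB 1 0 j' (idx (g (pt 2))) c = true := (Bool.and_eq_true _ _ ▸ hB).1
  obtain ⟨e1, e2⟩ := identify hg hj h0 h1 hb
  exact ⟨_, he, e1, e2, hB⟩

/-- A subgroup of index twelve transitive on both dodecads cannot hold multiplication by two. -/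
theorem no_bitransitive_x {X : Subgroup G12} (hX : X.index = 12)
    (hx : (⟨x11, x11_mem12⟩ : G12) ∈ X)
    (htr : ∀ e, e = d₀ ∨ e = d₀ᶜ → ∀ a ∈ e, ∀ b ∈ e, ∃ g ∈ X, (g : Equiv.Perm GolayPt) a = b) :
    False := by
  have hXc : Nat.card X = 7920 := by
    have h := X.index_mul_card
    rw [hX, card_G12] at h
    omega
  have hf := f5_mem_of_x11 hXc hx
  have hstab : ∀ p, Nat.card (MulAction.stabilizer X (p : GolayPt)) = 660 := by
    intro p
    obtain ⟨e, hem, hp, he⟩ := side p
    have horb : MulAction.orbit X p = ↑e := by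
      refine Set.ext fun q => ⟨?_, fun hq => ?_⟩
      · rintro ⟨g, rfl⟩
        rw [Finset.mem_coe, ← ((side_mem he).1 g.1.2).2]
        exact Finset.mem_smul_finset.2 ⟨p, hp, rfl⟩
      · obtain ⟨g, hg, e'⟩ := htr e he p hp q hq
        exact ⟨⟨g, hg⟩, e'⟩
    have h := (MulAction.stabilizer X p).card_mul_index
    rw [MulAction.index_stabilizer, horb, Set.ncard_coe_finset, card_dodecad hem, hXc] at h
    omega
  obtain ⟨h0d, h1d, -, -, hf1, -, ht1, ht2, -, -, -, -, -, -, -, e0, e1, -⟩ := small_facts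
  have hf0 : f5 (pt 0) = pt 0 := by rw [f5_pt (by norm_num), e0]
  have hf1' : f5 (pt 1) = pt 1 := by rw [f5_pt (by norm_num), e1]
  set Y := MulAction.stabilizer X (pt 0) with hY
  let fY : Y := ⟨⟨⟨f5, f5_mem⟩, hf⟩, hf0⟩
  haveI := Fact.mk (by norm_num : Nat.Prime 5)
  have horder : ∀ y : Y, orderOf y = orderOf (((y : X) : G12) : Equiv.Perm GolayPt) := fun y => by
    rw [← Subgroup.orderOf_coe, ← Subgroup.orderOf_coe, ← Subgroup.orderOf_coe]
  have hfac : (Nat.card Y).factorization 5 = 1 := by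
    rw [hstab, show (660 : ℕ) = 5 * 132 from rfl, Nat.factorization_mul (by norm_num) (by norm_num)]
    simp [Nat.factorization_eq_zero_of_not_dvd (show ¬ 5 ∣ 132 by norm_num),
      (show Nat.Prime 5 by norm_num).factorization_self]
  let P : Sylow 5 Y := Sylow.ofCard (Subgroup.zpowers fY) (by
    rw [Nat.card_zpowers, horder, f5_order, hfac, pow_one])
  -- an element exchanging the two fixed points
  obtain ⟨g, hgX, hnorm, hnorm', hg1⟩ : ∃ g : Equiv.Perm GolayPt, (∃ h : g ∈ G12, (⟨g, h⟩ : G12) ∈ X) ∧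
      g * f5 * g⁻¹ ∈ Subgroup.zpowers f5 ∧ f5 ∈ Subgroup.zpowers (g * f5 * g⁻¹) ∧
      g (pt 1) = pt 0 := by
    obtain ⟨k, hk, hk1⟩ := htr d₀ (Or.inl rfl) (pt 1) h1d (pt 0) h0d
    let f' : Y := ⟨⟨k, hk⟩ * ⟨⟨f5, f5_mem⟩, hf⟩ * ⟨k, hk⟩⁻¹, by
      show (k : Equiv.Perm GolayPt) (f5 ((k : Equiv.Perm GolayPt)⁻¹ (pt 0))) = pt 0
      rw [show (k : Equiv.Perm GolayPt)⁻¹ (pt 0) = pt 1 by
        rw [← hk1]; exact Equiv.symm_apply_apply _ _, hf1', hk1]⟩
    let P' : Sylow 5 Y := Sylow.ofCard (Subgroup.zpowers f') (by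
      rw [Nat.card_zpowers, horder, hfac, pow_one,
        show (((f' : X) : G12) : Equiv.Perm GolayPt) =
          MulAut.conj (k : Equiv.Perm GolayPt) f5 from rfl, MulEquiv.orderOf_eq, f5_order])
    obtain ⟨m, hm⟩ := MulAction.exists_smul_eq Y P' P
    have hm' : (Subgroup.zpowers f').map (MulAut.conj m).toMonoidHom = Subgroup.zpowers fY :=
      congrArg Sylow.toSubgroup hm
    rw [MonoidHom.map_zpowers] at hm'
    refine ⟨(((m : X) : G12) : Equiv.Perm GolayPt) * k, ⟨mul_mem ((m : X) : G12).2 k.2,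
      mul_mem (m : X).2 hk⟩, ?_, ?_, ?_⟩
    · obtain ⟨i, hi⟩ := Subgroup.mem_zpowers_iff.1 (hm' ▸ Subgroup.mem_zpowers _ :
        (MulAut.conj m).toMonoidHom f' ∈ Subgroup.zpowers fY)
      refine Subgroup.mem_zpowers_iff.2 ⟨i, ?_⟩
      have := congrArg (fun z : Y => (((z : X) : G12) : Equiv.Perm GolayPt)) hi
      simp [fY, f'] at this
      rw [this]
      group
    · obtain ⟨i, hi⟩ := Subgroup.mem_zpowers_iff.1 (hm'.symm ▸ Subgroup.mem_zpowers _ :
        fY ∈ Subgroup.zpowers ((MulAut.conj m).toMonoidHom f'))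
      refine Subgroup.mem_zpowers_iff.2 ⟨i, ?_⟩
      have := congrArg (fun z : Y => (((z : X) : G12) : Equiv.Perm GolayPt)) hi
      simp [fY, f'] at this
      rw [conj_zpow]
      refine Eq.trans ?_ this
      group
    · show ((m : X) : G12).1 ((k : Equiv.Perm GolayPt) (pt 1)) = pt 0
      rw [hk1]
      exact m.2
  obtain ⟨hgG, hgX⟩ := hgX
  -- the involution
  have htX : ∃ h : permOf t5Code ∈ G12, (⟨_, h⟩ : G12) ∈ X := by
    refine ⟨permOf_mem_G12 ht1 ht2, ?_⟩
    have hN : ∀ n : Y, n ∈ Subgroup.normalizer ((Subgroup.zpowers fY : Subgroup Y) : Set Y) →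
        ∃ e ∈ m12Fix, (((n : X) : G12) : Equiv.Perm GolayPt) = permOf e.2.2 ∧
          normalisesB e.1 e.2.2 = true ∧ fixB e = true := by
      intro n hn
      obtain ⟨i, hi⟩ := Subgroup.mem_zpowers_iff.1
        ((Subgroup.mem_normalizer_iff.1 hn fY).1 (Subgroup.mem_zpowers fY))
      obtain ⟨i', hi'⟩ := Subgroup.mem_zpowers_iff.1
        ((Subgroup.mem_normalizer_iff.1 (inv_mem hn) fY).1 (Subgroup.mem_zpowers fY))
      refine fix_cand ((n : X) : G12).2 (Subgroup.mem_zpowers_iff.2 ⟨i, ?_⟩)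
        (Subgroup.mem_zpowers_iff.2 ⟨i', ?_⟩) n.2
      · simpa [fY] using congrArg (fun z : Y => (((z : X) : G12) : Equiv.Perm GolayPt)) hi
      · have := congrArg (fun z : Y => (((z : X) : G12) : Equiv.Perm GolayPt)) hi'
        simp [fY] at this
        rw [conj_zpow, this]
        group
    set N := Subgroup.normalizer ((Subgroup.zpowers fY : Subgroup Y) : Set Y) with hNdef
    have hNle : Nat.card N ≤ 40 := by
      let c : N → {x // x ∈ (m12Fix.map fun e => permOf e.2.2).toFinset} := fun n =>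
        ⟨((((n : Y) : X) : G12) : Equiv.Perm GolayPt), by
          obtain ⟨e, he, e', -⟩ := hN n n.2
          rw [List.mem_toFinset, e']
          exact List.mem_map.2 ⟨e, he, rfl⟩⟩
      refine (Nat.card_le_card_of_injective c fun a b h =>
        Subtype.ext (Subtype.ext (Subtype.ext (Subtype.ext (congrArg Subtype.val h :))))).trans ?_
      rw [Nat.card_eq_fintype_card, Fintype.card_coe]
      exact (List.toFinset_card_le _).trans (by rw [List.length_map]; decide)
    obtain ⟨-, -, -, hmod⟩ := SmallOrder.sylow_arith P (a := 1) (m := 132)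
      (by rw [hstab]; norm_num) (by norm_num)
    have hNY : Nat.card N * Nat.card (Sylow 5 Y) = 660 := by
      rw [Sylow.card_eq_index_normalizer P, ← hstab (pt 0)]
      exact Subgroup.card_mul_index _
    have h2 : 2 ∣ Nat.card N := by
      have hpos : 0 < Nat.card N := Nat.card_pos
      have key : ∀ n < 41, 0 < n → n ∣ 660 → 660 / n % 5 = 1 → 2 ∣ n := by decide +kernel
      refine key _ (by omega) hpos (Dvd.intro _ hNY) ?_
      rw [← hNY, Nat.mul_div_cancel_left _ hpos]
      exact hmod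
    haveI := Fact.mk Nat.prime_two
    obtain ⟨t, ht⟩ := exists_prime_orderOf_dvd_card' 2 h2
    obtain ⟨e, he, het, hen, heB⟩ := hN t t.2
    have ho : orderOf ((((t : Y) : X) : G12) : Equiv.Perm GolayPt) = 2 := by
      rw [← horder, Subgroup.orderOf_coe, ht]
    obtain ⟨j, u, c⟩ := e
    simp only [fixB, Bool.and_eq_true, Bool.or_eq_true, Bool.not_eq_true', hen, Bool.false_eq_true,
      false_or, reduceCtorEq] at heB
    obtain ⟨hb, hcase⟩ := heB
    simp only [baseB, Bool.and_eq_true] at hb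
    have hc := permOK_of_isAut hb.1.1.1.1.1.1
    rw [orderOf_eq_prime_iff, het] at ho
    have hsq : ((List.range 24).all fun i => app c (app c i) == i) = true :=
      (pow_eq_one_of_app (w := permOf c) (fun p => idx_permOf hc p) 2).1 ho.1
    have hne1 : ((List.range 24).all fun i => app c i == i) ≠ true := fun h => by
      have := (pow_eq_one_of_app (w := permOf c) (fun p => idx_permOf hc p) 1).2 h
      rw [pow_one] at this
      exact ho.2 this
    obtain ⟨k, -, hk⟩ : ∃ k < 5, ∀ i < 24,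
        (app f5Code)^[k] (app c i) = app t5Code ((app f5Code)^[k] i) := by
      simpa [hsq, hne1] using hcase
    have ht5 := permOK_of_isAut ht1
    have heq : permOf t5Code = f5 ^ k * permOf c * (f5 ^ k)⁻¹ := by
      rw [eq_mul_inv_iff_mul_eq]
      refine Equiv.ext fun p => idx_injective ?_
      rw [Equiv.Perm.mul_apply, Equiv.Perm.mul_apply, idx_permOf ht5, idx_f5_pow, idx_f5_pow,
        idx_permOf hc]
      exact (hk _ (idx_lt p)).symm
    have hmem : (⟨f5, f5_mem⟩ : G12) ^ k * ((t : Y) : X).1 * ((⟨f5, f5_mem⟩ : G12) ^ k)⁻¹ ∈ X :=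
      mul_mem (mul_mem (pow_mem hf k) ((t : Y) : X).2) (inv_mem (pow_mem hf k))
    convert hmem using 1
    refine Subtype.ext ?_
    simp only [Subgroup.coe_mul, InvMemClass.coe_inv, SubmonoidClass.coe_pow, het]
    exact heq
  -- the word of order eight
  obtain ⟨e, he, heg, hen, heB⟩ := swap_cand hgG hnorm hnorm' hg1
  obtain ⟨j, u, c, l⟩ := e
  simp only [swapB, Bool.and_eq_true, Bool.or_eq_true, Bool.not_eq_true', hen, Bool.false_eq_true,
    false_or, reduceCtorEq, beq_iff_eq] at heB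
  obtain ⟨hb, ⟨hfix, h8⟩, h4⟩ := heB
  simp only [baseB, Bool.and_eq_true] at hb
  have hc1 := hb.1.1.1.1.1.1
  have hlet : ∀ k, ∃ h : permOf (letter c k) ∈ G12, (⟨_, h⟩ : G12) ∈ X ∧
      permOK (letter c k) = true := by
    rintro (_|_|_|k)
    · exact ⟨x11_mem12, hx, permOK_of_isAut mul2_aut.1⟩
    · exact ⟨f5_mem, hf, f5_ok⟩
    · exact ⟨htX.1, htX.2, permOK_of_isAut ht1⟩
    · show ∃ h : permOf c ∈ G12, (⟨permOf c, h⟩ : G12) ∈ X ∧ permOK c = true
      rw [← heg] at *
      exact ⟨hgG, hgX, permOK_of_isAut hc1⟩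
  have hword : ∀ w : List ℕ, ∃ v : X, ∀ p, idx (((v : G12) : Equiv.Perm GolayPt) p) =
      wordApp c w (idx p) := by
    intro w
    induction w with
    | nil => exact ⟨1, fun p => rfl⟩
    | cons k w ih =>
      obtain ⟨v, hv⟩ := ih
      obtain ⟨hk, hkX, hok⟩ := hlet k
      refine ⟨⟨_, hkX⟩ * v, fun p => ?_⟩
      show idx (permOf (letter c k) (((v : G12) : Equiv.Perm GolayPt) p)) = _
      rw [idx_permOf hok, hv]
      rfl
  obtain ⟨v, hv⟩ := hword l
  have hord : orderOf ((v : G12) : Equiv.Perm GolayPt) = 8 := by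
    refine orderOf_eq_prime_pow (p := 2) (n := 2) (fun e => ?_) ((pow_eq_one_of_app hv _).2 h8)
    rw [(pow_eq_one_of_app hv 4).1 e] at h4
    exact Bool.false_ne_true h4.symm
  have hfixp : ∃ p : GolayPt, v • p = p := by
    rcases hfix with e | e
    · exact ⟨pt 0, idx_injective (show idx (((v : G12) : Equiv.Perm GolayPt) (pt 0)) = _ by
        rw [hv, idx_pt (by norm_num), e])⟩
    · exact ⟨pt 23, idx_injective (show idx (((v : G12) : Equiv.Perm GolayPt) (pt 23)) = _ by
        rw [hv, idx_pt (by norm_num), e])⟩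
  obtain ⟨p, hp⟩ := hfixp
  have hd := orderOf_dvd_natCard (⟨v, hp⟩ : MulAction.stabilizer X p)
  rw [← Subgroup.orderOf_coe, ← Subgroup.orderOf_coe, ← Subgroup.orderOf_coe, hord, hstab] at hd
  norm_num at hd

/-- No subgroup of index twelve is transitive on both dodecads. -/
theorem no_bitransitive {X : Subgroup G12} (hX : X.index = 12)
    (htr : ∀ e, e = d₀ ∨ e = d₀ᶜ → ∀ a ∈ e, ∀ b ∈ e, ∃ g ∈ X, (g : Equiv.Perm GolayPt) a = b) :
    False := by
  haveI := Fact.mk (by norm_num : Nat.Prime 11)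
  have hXc : Nat.card X = 7920 := by
    have h := X.index_mul_card
    rw [hX, card_G12] at h
    omega
  obtain ⟨y, hy⟩ := exists_prime_orderOf_dvd_card' (G := X) 11 (by rw [hXc]; norm_num)
  have hfac : (Nat.card G12).factorization 11 = 1 := by
    rw [card_G12, show (95040 : ℕ) = 11 * 8640 from rfl,
      Nat.factorization_mul (by norm_num) (by norm_num)]
    simp [Nat.factorization_eq_zero_of_not_dvd (show ¬ 11 ∣ 8640 by norm_num),
      (show Nat.Prime 11 by norm_num).factorization_self]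
  let P : Sylow 11 G12 := Sylow.ofCard (Subgroup.zpowers (y : G12)) (by
    rw [Nat.card_zpowers, Subgroup.orderOf_coe, hy, hfac, pow_one])
  let Q : Sylow 11 G12 := Sylow.ofCard (Subgroup.zpowers ⟨x11, x11_mem12⟩) (by
    rw [Nat.card_zpowers, x11G_order, hfac, pow_one])
  obtain ⟨g, hg⟩ := MulAction.exists_smul_eq G12 P Q
  have hg' : (Subgroup.zpowers (y : G12)).map (MulAut.conj g).toMonoidHom =
      Subgroup.zpowers ⟨x11, x11_mem12⟩ := congrArg Sylow.toSubgroup hg
  refine no_bitransitive_x (X := X.map (MulAut.conj g).toMonoidHom)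
    ((Subgroup.index_map_equiv (H := X) (MulAut.conj g)).trans hX) ?_ fun e he a ha b hb => ?_
  · have := hg'.symm ▸ Subgroup.mem_zpowers (⟨x11, x11_mem12⟩ : G12)
    exact Subgroup.map_mono (Subgroup.zpowers_le.2 y.2) this
  · have hmem : ∀ c ∈ e, (g : Equiv.Perm GolayPt)⁻¹ c ∈ e := fun c hc => by
      rw [← ((side_mem he).1 (inv_mem g.2)).2]
      exact Finset.mem_smul_finset.2 ⟨c, hc, rfl⟩
    obtain ⟨k, hk, e'⟩ := htr e he _ (hmem a ha) _ (hmem b hb)
    refine ⟨g * k * g⁻¹, ⟨k, hk, rfl⟩, ?_⟩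
    show (g : Equiv.Perm GolayPt) ((k : Equiv.Perm GolayPt) ((g : Equiv.Perm GolayPt)⁻¹ a)) = b
    rw [e']
    exact Equiv.apply_symm_apply _ _

end Cfsg.Agent.TwoGroups.OutMathieu
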