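import Mathlib
import Cfsg.Agent.TwoGroups.OutMathieu.IndexM12
import Cfsg.Agent.TwoGroups.OutMathieu.Hexads

/-!
# The outer automorphism groups of `M11` and `M12`
-/

set_option autoImplicit false
set_option maxRecDepth 20000

open Cfsg Cfsg.Agent.Golay
open scoped Pointwise

namespace Cfsg.Agent.TwoGroups.OutMathieu

theorem arith12 : ∀ k < 12, 0 < k → Nat.choose 12 5 ∣ 12 * k.choose 5 →
    Nat.choose 12 5 ∣ 12 * (12 - k).choose 5 → k = 1 ∨ k = 12 - 1 := by
  decide +kernel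

theorem arith10 : ∀ k < 11, 0 < k → Nat.choose 11 4 ∣ 11 * k.choose 4 →
    Nat.choose 11 4 ∣ 11 * (11 - k).choose 4 → k = 1 ∨ k = 11 - 1 := by
  decide +kernel

theorem rigid12 : Rigid G12 Set.univ 12 where
  out _ _ p hp := absurd (Set.mem_univ p) hp
  idx p _ := G12_index p
  inj _ _ _ _ h := G12_inj h
  cls X hX := by
    obtain ⟨e, he, hnt⟩ : ∃ e, (e = d₀ ∨ e = d₀ᶜ) ∧
        ¬ ∀ a ∈ e, ∀ b ∈ e, ∃ g ∈ X, (g : Equiv.Perm GolayPt) a = b := by
      by_contra hcon
      push Not at hcon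
      exact no_bitransitive hX hcon
    have hc : e.card = 12 := by
      rcases he with rfl | rfl
      · exact card_dodecad d₀_mem
      · exact card_dodecad d₀_compl_mem
    obtain ⟨p, -, hle⟩ := exists_fixed G12 e 5 (fun g hg => ((side_mem he).1 hg).2)
      (fun T T' h h' hT hT' => G12_subsets e he le_rfl T T' h h' hT hT') X
      (by rw [hc, hX]; exact arith12) hnt
    refine ⟨p, Set.mem_univ _, Subgroup.eq_of_le_of_card_ge hle (le_of_eq ?_)⟩
    have h1 := (pstab G12 p).index_mul_card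
    have h2 := X.index_mul_card
    rw [G12_index p] at h1
    rw [hX, ← h1] at h2
    omega

theorem smul_sides {σ : Equiv.Perm GolayPt} (hσ : ∀ g ∈ G12, σ⁻¹ * g * σ ∈ G12) :
    σ • d₀ = d₀ ∨ σ • d₀ = d₀ᶜ := by
  obtain ⟨q, hq⟩ : (σ • d₀).Nonempty := by
    rw [← Finset.card_pos, Finset.card_smul_finset, card_dodecad d₀_mem]
    norm_num
  obtain ⟨e, hem, hqe, he⟩ := side q
  have hsub : e ⊆ σ • d₀ := by
    intro r hr
    obtain ⟨g, hg, hm⟩ := G12_move e he [q] [r] (by simp) (by simp) rfl (by simp) (by simp [hqe])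
      (by simp [hr])
    simp only [List.map_cons, List.map_nil, List.cons.injEq, and_true] at hm
    have hst : g • σ • d₀ = σ • d₀ := by
      have := congrArg (σ • ·) (mem_G12.1 (hσ g hg)).2
      simp only [mul_smul, smul_inv_smul] at this
      exact this
    rw [← hm, ← hst]
    exact Finset.mem_smul_finset.2 ⟨q, hq, rfl⟩
  have heq := Finset.eq_of_subset_of_card_le hsub (by
    rw [Finset.card_smul_finset, card_dodecad d₀_mem, card_dodecad hem])
  rw [← heq]
  exact he

theorem maps_d₀ {g : Equiv.Perm GolayPt} (hg : g ∈ G12) {q : GolayPt} (hq : q ∈ d₀) :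
    g q ∈ d₀ := by
  rw [← (mem_G12.1 hg).2]
  exact Finset.mem_smul_finset.2 ⟨q, hq, rfl⟩

/-- A permutation of the points normalising `G12` and the dodecad is in it. -/
theorem mem_G12_of_normalise {σ : Equiv.Perm GolayPt}
    (hσ : σ ∈ Subgroup.normalizer (G12 : Set (Equiv.Perm GolayPt))) (hd : σ • d₀ = d₀) :
    σ ∈ G12 := by
  have hmem : ∀ p, σ p ∈ d₀ ↔ p ∈ d₀ := fun p => by
    conv_lhs => rw [← hd]
    exact Finset.smul_mem_smul_finset_iff σ
  obtain ⟨k, hk⟩ := mem_range_of_normalise (σ := σ.subtypePerm hmem) (F := ∅) d₀_mem (by simp)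
    (by simp) (by
      rintro - ⟨g, rfl⟩ -
      exact ⟨⟨σ⁻¹ * g.1 * σ, (Subgroup.mem_normalizer_iff''.1 hσ g.1).1 g.2⟩, Equiv.ext fun p => rfl⟩)
  set u := (k : Equiv.Perm GolayPt)⁻¹ * σ with hu
  have hfix : ∀ p ∈ d₀, u p = p := by
    intro p hp
    have h1 : (k : Equiv.Perm GolayPt) p = σ p :=
      congrArg (fun f : Equiv.Perm {q // q ∈ d₀} => ((f ⟨p, hp⟩ : {q // q ∈ d₀}) : GolayPt)) hk
    show (k : Equiv.Perm GolayPt)⁻¹ (σ p) = p
    rw [← h1]
    exact Equiv.symm_apply_apply _ _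
  have hun : u ∈ Subgroup.normalizer (G12 : Set (Equiv.Perm GolayPt)) :=
    mul_mem (inv_mem (Subgroup.le_normalizer k.2)) hσ
  have hcomm : ∀ g ∈ G12, u * g = g * u := by
    intro g hg
    have hc : g * u * g⁻¹ * u⁻¹ ∈ G12 := by
      have := mul_mem hg ((Subgroup.mem_normalizer_iff.1 hun _).1 (inv_mem hg))
      simpa [mul_assoc] using this
    have h1 : (⟨_, hc⟩ : G12) = 1 := by
      refine dodRes_injective d₀_mem ((Equiv.ext fun p => Subtype.ext ?_).trans (map_one _).symm)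
      show g (u (g⁻¹ (u⁻¹ (p : GolayPt)))) = (p : GolayPt)
      have h2 : u⁻¹ (p : GolayPt) = p := by
        conv_lhs => rw [← hfix p p.2]
        exact Equiv.symm_apply_apply _ _
      have h3 : g⁻¹ (p : GolayPt) ∈ d₀ := maps_d₀ (inv_mem hg) p.2
      rw [h2, hfix _ h3]
      exact Equiv.apply_symm_apply _ _
    have h4 : g * u * g⁻¹ * u⁻¹ = 1 := congrArg Subtype.val h1
    calc u * g = (g * u * g⁻¹ * u⁻¹)⁻¹ * (g * u) := by group
      _ = g * u := by rw [h4]; group
  have h1 := rigid12.centralizer_eq_one (σ := u) (fun p hp => absurd (Set.mem_univ p) hp) hcomm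
  rw [hu, inv_mul_eq_one] at h1
  exact h1 ▸ k.2

theorem card_out_G12 : Nat.card (Cfsg.Out ↥G12) = 2 := by
  rw [rigid12.card_out (Subgroup.normalizer (G12 : Set (Equiv.Perm GolayPt)))
    (fun σ _ p hp => absurd (Set.mem_univ p) hp)
    (fun σ hσ g hg => (Subgroup.mem_normalizer_iff.1 hσ g).1 hg)
    (fun σ _ hn => Subgroup.mem_normalizer_fintype fun g hg => hn g hg)]
  obtain ⟨τ, hτ, hτd⟩ := M24_dodecad_transitive d₀_mem d₀_compl_mem
  have hτd' : τ • d₀ᶜ = d₀ := by
    rw [Finset.compl_eq_univ_sdiff, Finset.smul_finset_sdiff, Finset.smul_finset_univ, hτd,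
      ← Finset.compl_eq_univ_sdiff, compl_compl]
  have hne : d₀ᶜ ≠ d₀ := fun h => by
    have := small_facts.1
    exact Finset.mem_compl.1 (h ▸ this) this
  have hτn : τ ∈ Subgroup.normalizer (G12 : Set (Equiv.Perm GolayPt)) := by
    refine Subgroup.mem_normalizer_fintype fun g hg => mem_G12.2 ⟨?_, ?_⟩
    · exact mul_mem (mul_mem hτ (mem_G12.1 hg).1) (inv_mem hτ)
    · rw [mul_smul, mul_smul, show τ⁻¹ • d₀ = d₀ᶜ by rw [inv_smul_eq_iff, hτd'], G12_compl hg, hτd']
  rw [Subgroup.index_eq_two_iff]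
  refine ⟨⟨τ, hτn⟩, fun b => ?_⟩
  simp only [Subgroup.mem_subgroupOf, Subgroup.coe_mul]
  rcases smul_sides (σ := (b : Equiv.Perm GolayPt))
    (fun g hg => (Subgroup.mem_normalizer_iff''.1 b.2 g).1 hg) with h | h
  · refine Or.inr ⟨mem_G12_of_normalise b.2 h, fun hbt => hne ?_⟩
    conv_rhs => rw [← (mem_G12.1 hbt).2, mul_smul, hτd]
    rw [Finset.compl_eq_univ_sdiff, Finset.smul_finset_sdiff, Finset.smul_finset_univ, h]
  · refine Or.inl ⟨mem_G12_of_normalise (mul_mem b.2 hτn) ?_, fun hb => hne ?_⟩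
    · rw [mul_smul, hτd, Finset.compl_eq_univ_sdiff, Finset.smul_finset_sdiff,
        Finset.smul_finset_univ, h, ← Finset.compl_eq_univ_sdiff, compl_compl]
    · rw [← h, (mem_G12.1 hb).2]

theorem card_out_spor_M12 : Nat.card (Cfsg.Out ↥Cfsg.Spor.M12) = 2 := by
  rw [show Cfsg.Spor.M12 = G12 from by rw [Cfsg.Spor.M12, squareDodecad_eq]; rfl]
  exact card_out_G12

/-! ### `M11` -/

/-- The residue zero as a point of the dodecad. -/
def a₀ : {p // p ∈ d₀} := ⟨pt 0, small_facts.1⟩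

/-- `M11`, acting on the dodecad. -/
noncomputable def R11 : Subgroup (Equiv.Perm {p // p ∈ d₀}) :=
  (dodRes d₀).range ⊓ MulAction.stabilizer (Equiv.Perm {p // p ∈ d₀}) a₀

theorem mem_R11 {g : Equiv.Perm {p // p ∈ d₀}} :
    g ∈ R11 ↔ g ∈ (dodRes d₀).range ∧ g a₀ = a₀ := Iff.rfl

theorem R11_move (s s' : List {p // p ∈ d₀}) (hs : (a₀ :: s).Nodup) (hs' : (a₀ :: s').Nodup)
    (hlen : s.length = s'.length) (h5 : s.length ≤ 4) : ∃ g ∈ R11, s.map g = s' := by
  obtain ⟨g, hg, hm⟩ := G12_move d₀ (Or.inl rfl) ((a₀ :: s).map Subtype.val)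
    ((a₀ :: s').map Subtype.val) (hs.map Subtype.val_injective) (hs'.map Subtype.val_injective)
    (by simp [hlen]) (by simp; omega) (by simp only [List.mem_map]; rintro p ⟨q, -, rfl⟩; exact q.2)
    (by simp only [List.mem_map]; rintro p ⟨q, -, rfl⟩; exact q.2)
  simp only [List.map_cons, List.map_map, List.cons.injEq] at hm
  refine ⟨dodRes d₀ ⟨g, hg⟩, mem_R11.2 ⟨⟨_, rfl⟩, Subtype.ext hm.1⟩,
    List.map_injective_iff.2 Subtype.val_injective ?_⟩
  rw [List.map_map]
  exact hm.2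

theorem card_others : (({a₀} : Finset {p // p ∈ d₀})ᶜ).card = 11 := by
  rw [Finset.card_compl, Fintype.card_coe, card_dodecad d₀_mem, Finset.card_singleton]

theorem R11_stable {g : Equiv.Perm {p // p ∈ d₀}} (hg : g ∈ R11) :
    g • ({a₀} : Finset {p // p ∈ d₀})ᶜ = {a₀}ᶜ := by
  rw [Finset.compl_eq_univ_sdiff, Finset.smul_finset_sdiff, Finset.smul_finset_univ,
    Finset.smul_finset_singleton, Equiv.Perm.smul_def, (mem_R11.1 hg).2]

theorem R11_index {p : {p // p ∈ d₀}} (hp : p ∈ ({a₀} : Finset {p // p ∈ d₀})ᶜ) :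
    (pstab R11 p).index = 11 := by
  have hst : pstab R11 p = MulAction.stabilizer R11 p := rfl
  rw [hst, MulAction.index_stabilizer, ← card_others, ← Set.ncard_coe_finset]
  congr 1
  ext q
  rw [Finset.mem_coe]
  constructor
  · rintro ⟨g, rfl⟩
    rw [← R11_stable g.2]
    exact Finset.smul_mem_smul_finset hp
  · intro hq
    simp only [Finset.mem_compl, Finset.mem_singleton] at hp hq
    obtain ⟨g, hg, hm⟩ := R11_move [p] [q] (by simp [Ne.symm hp]) (by simp [Ne.symm hq]) rfl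
      (by simp)
    exact ⟨⟨g, hg⟩, by simpa using hm⟩

/-- The model is isomorphic to `M11`. -/
noncomputable def m11Equiv : ↥Cfsg.Spor.M11 ≃* ↥R11 :=
  have h12 : ∀ g : ↥Cfsg.Spor.M11, (g : Equiv.Perm GolayPt) ∈ G12 := fun g =>
    mem_G12.2 ⟨g.2.1.1, by
      have h : (g : Equiv.Perm GolayPt) • Cfsg.Spor.squareDodecad = Cfsg.Spor.squareDodecad := g.2.1.2
      rwa [squareDodecad_eq] at h⟩
  let f : ↥Cfsg.Spor.M11 →* ↥R11 :=
    { toFun := fun g => ⟨dodRes d₀ ⟨g, h12 g⟩, mem_R11.2 ⟨⟨_, rfl⟩, Subtype.ext g.2.2⟩⟩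
      map_one' := Subtype.ext (Equiv.ext fun _ => rfl)
      map_mul' := fun _ _ => Subtype.ext (Equiv.ext fun _ => rfl) }
  MulEquiv.ofBijective f
    ⟨fun a b e => Subtype.ext
        (congrArg Subtype.val (dodRes_injective d₀_mem (congrArg Subtype.val e)) :),
      fun r => by
        obtain ⟨k, hk⟩ := (mem_R11.1 r.2).1
        refine ⟨⟨k.1, ⟨k.2.1, ?_⟩, ?_⟩, Subtype.ext hk⟩
        · show (k : Equiv.Perm GolayPt) • Cfsg.Spor.squareDodecad = Cfsg.Spor.squareDodecad
          rw [squareDodecad_eq]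
          exact k.2.2
        · show (k : Equiv.Perm GolayPt) (pt 0) = pt 0
          have := congrArg Subtype.val (mem_R11.1 r.2).2
          rw [← hk] at this
          exact this⟩

theorem rigid11 : Rigid R11 ↑(({a₀} : Finset {p // p ∈ d₀})ᶜ) 11 where
  out g hg p hp := by
    simp only [Finset.coe_compl, Finset.coe_singleton, Set.mem_compl_iff, Set.mem_singleton_iff,
      not_not] at hp
    rw [hp]
    exact (mem_R11.1 hg).2
  idx p hp := R11_index hp
  inj p hp q hq h := by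
    by_contra hpq
    obtain ⟨r, hr⟩ : (({a₀} : Finset {p // p ∈ d₀})ᶜ \ {p, q}).Nonempty := by
      rw [← Finset.card_pos]
      have h1 := Finset.le_card_sdiff ({p, q} : Finset {p // p ∈ d₀}) ({a₀}ᶜ)
      have h2 : ({p, q} : Finset {p // p ∈ d₀}).card ≤ 2 := Finset.card_le_two
      rw [card_others] at h1
      omega
    simp only [Finset.mem_sdiff, Finset.mem_compl, Finset.mem_insert, Finset.mem_singleton,
      not_or, Finset.mem_coe] at hp hq hr
    obtain ⟨g, hg, hm⟩ := R11_move [p, q] [p, r] (by simp [hpq, Ne.symm hp, Ne.symm hq])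
      (by simp [Ne.symm hr.2.1, Ne.symm hp, Ne.symm hr.1]) rfl (by simp)
    simp only [List.map_cons, List.map_nil, List.cons.injEq, and_true] at hm
    have h1 : (⟨g, hg⟩ : R11) ∈ pstab R11 q := h ▸ mem_pstab.2 hm.1
    exact hr.2.2 (hm.2.symm.trans h1)
  cls X hX := by
    classical
    have hR : Nat.card R11 = 7920 := by
      rw [← Nat.card_congr m11Equiv.toEquiv, spor_M11_card]
    have hXc : Nat.card X = 720 := by
      have h := X.index_mul_card
      rw [hX, hR] at h
      omega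
    obtain ⟨p, hp, hle⟩ := exists_fixed R11 (({a₀} : Finset {p // p ∈ d₀})ᶜ) 4
      (fun g hg => R11_stable hg)
      (fun T T' hT hT' hc hc' => by
        have nd : ∀ U : Finset {p // p ∈ d₀}, U ⊆ {a₀}ᶜ → (a₀ :: U.toList).Nodup := fun U hU => by
          refine List.nodup_cons.2 ⟨fun h => ?_, U.nodup_toList⟩
          have := hU (Finset.mem_toList.1 h)
          simp at this
        obtain ⟨g, hg, hm⟩ := R11_move T.toList T'.toList (nd T hT) (nd T' hT') (by simp [hc, hc'])
          (by simp [hc])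
        refine ⟨g, hg, ?_⟩
        ext x
        rw [Finset.mem_smul_finset, ← Finset.mem_toList (s := T'), ← hm, List.mem_map]
        simp [Finset.mem_toList]) X
      (by rw [card_others, hX]; exact arith10) (fun htr => by
        obtain ⟨a, ha⟩ : (({a₀} : Finset {p // p ∈ d₀})ᶜ).Nonempty := by
          rw [← Finset.card_pos, card_others]; norm_num
        have horb : MulAction.orbit X a = ↑(({a₀} : Finset {p // p ∈ d₀})ᶜ) := by
          refine Set.ext fun b => ⟨?_, fun hb => ?_⟩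
          · rintro ⟨g, rfl⟩
            rw [Finset.mem_coe, ← R11_stable g.1.2]
            exact Finset.mem_smul_finset.2 ⟨a, ha, rfl⟩
          · obtain ⟨g, hg, e⟩ := htr a ha b hb
            exact ⟨⟨g, hg⟩, e⟩
        have h := (MulAction.stabilizer X a).card_mul_index
        rw [MulAction.index_stabilizer, horb, Set.ncard_coe_finset, card_others, hXc] at h
        omega)
    refine ⟨p, hp, Subgroup.eq_of_le_of_card_ge hle (le_of_eq ?_)⟩
    have h1 := (pstab R11 p).index_mul_card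
    rw [R11_index hp, hR] at h1
    omega

theorem card_out_spor_M11 : Nat.card (Cfsg.Out ↥Cfsg.Spor.M11) = 1 := by
  rw [card_out_congr m11Equiv, rigid11.card_out R11 (fun σ hσ p hp => rigid11.out σ hσ p hp)
    (fun σ hσ g hg => mul_mem (mul_mem hσ hg) (inv_mem hσ)) (fun σ hσ hn => ?_),
    Subgroup.subgroupOf_self, Subgroup.index_top]
  have ha : σ a₀ = a₀ := hσ a₀ (by simp)
  have hσn : σ ∈ Subgroup.normalizer (R11 : Set (Equiv.Perm {p // p ∈ d₀})) :=
    Subgroup.mem_normalizer_fintype fun g hg => hn g hg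
  refine mem_R11.2 ⟨mem_range_of_normalise d₀_mem (F := {a₀}) (by simp) (fun p hp => ?_)
    fun g hg hgF => ?_, ha⟩
  · rw [Finset.mem_singleton] at hp
    rw [hp, ha]
  · exact ((Subgroup.mem_normalizer_iff''.1 hσn g).1
      (mem_R11.2 ⟨hg, hgF a₀ (Finset.mem_singleton_self _)⟩)).1

end Cfsg.Agent.TwoGroups.OutMathieu
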