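import Mathlib
import Cfsg.Agent.Golay.SteinerAut
import Cfsg.Agent.M24Orbits.SixSets

/-!
# Permutations normalising the Mathieu groups preserve the octads
-/

set_option autoImplicit false
set_option maxRecDepth 20000

open Cfsg Cfsg.Agent.Golay
open scoped Pointwise

namespace Cfsg.Agent.TwoGroups.OutMathieu

/-- The elements of `M24` fixing five points are transitive outside their octad. -/
theorem five_fixer_transitive {o : Finset GolayPt} (ho : o ∈ octads) {T : Finset GolayPt}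
    (hTo : T ⊆ o) (hTc : T.card = 5) {q r : GolayPt} (hq : q ∉ o) (hr : r ∉ o) :
    ∃ g ∈ M24, (∀ p ∈ T, g p = p) ∧ g q = r := by
  obtain ⟨g₀, hg₀, he⟩ := exists_mem_M24_finset M24Orbits.five T
    (M24Orbits.five_card.trans hTc.symm) M24Orbits.five_card.le
  have hoct : g₀ • M24Orbits.oct = o := by
    refine octad_eq_of_five_le (smul_mem_octads hg₀ octad_base) ho ?_
    rw [← hTc]
    refine Finset.card_le_card (Finset.subset_inter ?_ hTo)
    rw [← he]
    exact Finset.smul_finset_subset_smul_finset M24Orbits.five_subset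
  have hout : ∀ x, x ∉ o → g₀⁻¹ x ∉ M24Orbits.oct := fun x hx h => hx (by
    rw [← hoct]
    exact Finset.mem_smul_finset.2 ⟨_, h, g₀.apply_symm_apply x⟩)
  obtain ⟨h₁, hh₁, e₁⟩ := M24Orbits.outside_orbit (hout q hq)
  obtain ⟨h₂, hh₂, e₂⟩ := M24Orbits.outside_orbit (hout r hr)
  obtain ⟨hm, hfix⟩ := M24Orbits.mem_lvl5.1 (mul_mem hh₂ (inv_mem hh₁))
  refine ⟨g₀ * (h₂ * h₁⁻¹) * g₀⁻¹, mul_mem (mul_mem hg₀ hm) (inv_mem hg₀), fun p hp => ?_, ?_⟩
  · rw [← he] at hp
    obtain ⟨y, hy, rfl⟩ := Finset.mem_smul_finset.1 hp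
    show g₀ ((h₂ * h₁⁻¹) (g₀⁻¹ (g₀ y))) = g₀ y
    rw [show g₀⁻¹ (g₀ y) = y from g₀.symm_apply_apply y, hfix y hy]
  · show g₀ (h₂ (h₁⁻¹ (g₀⁻¹ q))) = r
    rw [show h₁⁻¹ (g₀⁻¹ q) = _ from (by rw [← e₁]; exact h₁.symm_apply_apply _ :
      h₁⁻¹ (g₀⁻¹ q) = pt (basePts.getD 5 0)), e₂]
    exact g₀.apply_symm_apply r

/-- If `σ` fixes `F` and carries the elements of `M24` fixing `F` into `M24`, it maps the octads
through `F` to octads. -/
theorem image_octad {σ : Equiv.Perm GolayPt} {F : Finset GolayPt} (hF : F.card ≤ 5)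
    (hσF : ∀ p ∈ F, σ p = p)
    (hσ : ∀ g ∈ M24, (∀ p ∈ F, g p = p) → σ⁻¹ * g * σ ∈ M24)
    {o' : Finset GolayPt} (ho' : o' ∈ octads) (hFo : F ⊆ o') : σ • o' ∈ octads := by
  have hsub : F ⊆ σ • o' := fun p hp => Finset.mem_smul_finset.2 ⟨p, hFo hp, hσF p hp⟩
  have hc : (σ • o').card = 8 := by rw [Finset.card_smul_finset, card_octad ho']
  obtain ⟨T, hFT, hTs, hTc⟩ := Finset.exists_subsuperset_card_eq hsub hF (by rw [hc]; norm_num)
  obtain ⟨o, ho, hTo⟩ := exists_octad_of_five T hTc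
  have hinv : ∀ g ∈ M24, (∀ p ∈ T, g p = p) → g • σ • o' = σ • o' := by
    intro g hg hgo
    have hh := hσ g hg fun p hp => hgo p (hFT hp)
    have hho : (σ⁻¹ * g * σ) • o' = o' := by
      refine octad_eq_of_five_le (smul_mem_octads hh ho') ho' ?_
      rw [← hTc, ← Finset.card_smul_finset σ⁻¹ T]
      refine Finset.card_le_card fun x hx => ?_
      obtain ⟨y, hy, rfl⟩ := Finset.mem_smul_finset.1 hx
      have hxo : σ⁻¹ • y ∈ o' := by
        rw [Finset.inv_smul_mem_iff]
        exact hTs hy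
      refine Finset.mem_inter.2 ⟨Finset.mem_smul_finset.2 ⟨σ⁻¹ • y, hxo, ?_⟩, hxo⟩
      rw [mul_smul, mul_smul, smul_inv_smul, Equiv.Perm.smul_def g, hgo y hy]
    have := congrArg (σ • ·) hho
    simp only [mul_smul, smul_inv_smul] at this
    exact this
  have heq : σ • o' ⊆ o := by
    intro q hq
    by_contra hqo
    have hall : oᶜ ⊆ σ • o' := by
      intro r hr
      obtain ⟨g, hg, hgT, rfl⟩ := five_fixer_transitive ho hTo hTc hqo (Finset.mem_compl.1 hr)
      rw [← hinv g hg hgT]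
      exact Finset.mem_smul_finset.2 ⟨q, hq, rfl⟩
    have := Finset.card_le_card hall
    rw [Finset.card_compl, card_golayPt, card_octad ho, hc] at this
    omega
  rw [Finset.eq_of_subset_of_card_le heq (by rw [hc, card_octad ho])]
  exact ho

/-- A permutation normalising the group of the permutations of `M24` fixing `F` which itself fixes
`F` lies in the group of the model at `F`. -/
theorem mem_modelGroup_of_normalise {σ : Equiv.Perm GolayPt} {F : Finset GolayPt} (hF : F.card ≤ 5)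
    (hσF : ∀ p ∈ F, σ p = p)
    (hσ : ∀ g ∈ M24, (∀ p ∈ F, g p = p) → σ⁻¹ * g * σ ∈ M24) : σ ∈ modelGroup F := by
  refine ⟨mem_setSystemAut fun s hs => ?_, mem_fixing.2 hσF⟩
  have h1 := image_octad hF hσF hσ hs.2 Finset.subset_union_left
  rw [Finset.smul_finset_union, smul_finset_fixed hσF] at h1
  refine ⟨?_, h1⟩
  rw [← smul_finset_fixed hσF]
  exact (Finset.disjoint_image σ.injective).2 hs.1

end Cfsg.Agent.TwoGroups.OutMathieu
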