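import Mathlib
import Cfsg.Agent.TwoGroups.OutMathieu.IndexM24
import Cfsg.Agent.TwoGroups.OutMathieu.Normaliser

/-!
# The outer automorphism groups of `M22`, `M23`, `M24`
-/

set_option autoImplicit false
set_option maxRecDepth 20000

open Cfsg Cfsg.Agent.Golay
open scoped Pointwise

namespace Cfsg.Agent.TwoGroups.OutMathieu

theorem fixList_nil : fixList [] = M24 := by
  ext g
  rw [mem_fixList]
  simp

theorem fixList_one (p : GolayPt) :
    fixList [p] = M24 ⊓ MulAction.stabilizer (Equiv.Perm GolayPt) p := by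
  ext g
  rw [mem_fixList, Subgroup.mem_inf, MulAction.mem_stabilizer_iff]
  simp

theorem fixList_two (p q : GolayPt) :
    fixList [p, q] = M24 ⊓ MulAction.stabilizer (Equiv.Perm GolayPt) p ⊓
      MulAction.stabilizer (Equiv.Perm GolayPt) q := by
  ext g
  rw [mem_fixList, Subgroup.mem_inf, Subgroup.mem_inf, MulAction.mem_stabilizer_iff,
    MulAction.mem_stabilizer_iff]
  simp [and_assoc]

/-- A permutation fixing the listed points and normalising their stabiliser is in the model group. -/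
theorem mem_model (l : List GolayPt) (hl : l.length ≤ 5) {σ : Equiv.Perm GolayPt}
    (hσ : ∀ p ∈ l, σ p = p) (hn : ∀ g ∈ fixList l, σ * g * σ⁻¹ ∈ fixList l) :
    σ ∈ modelGroup l.toFinset := by
  have hinv : σ⁻¹ ∈ modelGroup l.toFinset := by
    refine mem_modelGroup_of_normalise ((List.toFinset_card_le l).trans hl) (fun p hp => ?_)
      fun g hg hgF => ?_
    · rw [List.mem_toFinset] at hp
      conv_lhs => rw [← hσ p hp]
      exact σ.symm_apply_apply p
    · rw [inv_inv]
      exact (mem_fixList.1 (hn g (mem_fixList.2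
        ⟨hg, fun p hp => hgF p (List.mem_toFinset.2 hp)⟩))).1
  simpa using inv_mem hinv

theorem card_out_M24 : Nat.card (Cfsg.Out ↥M24) = 1 := by
  rw [← fixList_nil]
  rw [rigid_nil.card_out (fixList [])
    (fun σ hσ p hp => (rigid_nil).out σ hσ p hp) (fun σ hσ g hg => mul_mem (mul_mem hσ hg) (inv_mem hσ))
    (fun σ _ hn => ?_)]
  · rw [Subgroup.subgroupOf_self, Subgroup.index_top]
  · have h := mem_model [] (by simp) (fun p hp => by simp at hp) hn
    rw [List.toFinset_nil, M24_eq_modelGroup] at h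
    rw [fixList_nil]
    exact h

theorem card_out_M23 :
    Nat.card (Cfsg.Out ↥(M24 ⊓ MulAction.stabilizer (Equiv.Perm GolayPt) ptA)) = 1 := by
  rw [← fixList_one]
  rw [(rigid_one ptA).card_out (fixList [ptA])
    (fun σ hσ p hp => (rigid_one ptA).out σ hσ p hp)
    (fun σ hσ g hg => mul_mem (mul_mem hσ hg) (inv_mem hσ)) (fun σ hσ hn => ?_)]
  · rw [Subgroup.subgroupOf_self, Subgroup.index_top]
  · have h := mem_model [ptA] (by simp) (fun p hp => hσ p (by simpa using hp)) hn
    rw [show [ptA].toFinset = ({ptA} : Finset GolayPt) by simp, M23_eq_modelGroup] at h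
    rw [fixList_one]
    exact h

theorem card_out_M22 :
    Nat.card (Cfsg.Out ↥(M24 ⊓ MulAction.stabilizer (Equiv.Perm GolayPt) ptA ⊓
      MulAction.stabilizer (Equiv.Perm GolayPt) ptB)) = 2 := by
  have hGeq : fixList [ptA, ptB] = modelGroup {ptA, ptB} ⊓ M24 := by
    rw [fixList_two, M22_eq_inf]
  rw [← fixList_two]
  rw [(rigid_two ptA_ne_ptB).card_out (modelGroup {ptA, ptB}) (fun σ hσ p hp => ?_) (fun σ hσ g hg => ?_)
    (fun σ hσ hn => ?_)]
  · rw [hGeq, Subgroup.inf_subgroupOf_left]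
    exact M22_index
  · exact mem_fixing.1 hσ.2 p (by simp at hp ⊢; tauto)
  · rw [hGeq] at hg ⊢
    have hmem : σ * g * σ⁻¹ ∈ modelGroup {ptA, ptB} := mul_mem (mul_mem hσ hg.1) (inv_mem hσ)
    have := Subgroup.normal_of_index_eq_two M22_index
    have h := (inferInstance : (M24.subgroupOf (modelGroup {ptA, ptB})).Normal).conj_mem
      ⟨g, hg.1⟩ hg.2 ⟨σ, hσ⟩
    exact ⟨hmem, h⟩
  · have h := mem_model [ptA, ptB] (by simp) (fun p hp => hσ p (by simp at hp ⊢; tauto)) hn
    rwa [show [ptA, ptB].toFinset = ({ptA, ptB} : Finset GolayPt) by simp] at h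

end Cfsg.Agent.TwoGroups.OutMathieu
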